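import Cfsg.Agent.Lib.FixedHalf.Criterion

/-!
# Fixed spaces of elements in a representation: first bounds (statement S5720; owner helper90)

* `HasLargeFix` : some `g ≠ 1` fixes a subspace of dimension at least `dim V / 6`
* `le_two_mul_finrank_ker_add` : `dim V ≤ 2 dim ker T + dim range T²`
* `of_char_eq` : an element of order `r = char K`, `r ≤ 6`
* `of_elementary` : two commuting elements of order `r ≤ 5` generating a group of order `r²`
* `of_inverted` : an involution inverting an element of odd order
-/

set_option autoImplicit false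
set_option linter.unusedSectionVars false

open Module

namespace Cfsg.Agent.FixSixth

open FixedHalf (fixSub mem_fixSub)

variable {K : Type*} [Field K] {V : Type*} [AddCommGroup V] [Module K V] {G : Type*} [Group G]

/-- Some element other than `1` fixes a sixth of the space. -/
def HasLargeFix (ρ : G →* Module.End K V) : Prop :=
  ∃ g : G, g ≠ 1 ∧ finrank K V ≤ 6 * finrank K (fixSub (ρ g))

theorem HasLargeFix.of_comp {H : Type*} [Group H] {ρ : H →* Module.End K V} {f : G →* H}
    (hf : Function.Injective f) (h : HasLargeFix (ρ.comp f)) : HasLargeFix ρ := by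
  obtain ⟨g, hg, hn⟩ := h
  exact ⟨f g, fun e => hg (hf (by rw [e, map_one])), hn⟩

theorem app_mul (ρ : G →* Module.End K V) (g h : G) (v : V) : ρ (g * h) v = ρ g (ρ h v) := by
  rw [map_mul]; rfl

theorem app_one (ρ : G →* Module.End K V) (v : V) : ρ 1 v = v := by rw [map_one]; rfl

/-- An element fixes the fixed vectors of each of its powers. -/
theorem app_pow_of_fix (T : Module.End K V) {v : V} (hv : T v = v) (n : ℕ) : (T ^ n) v = v := by
  induction n with
  | zero => simp
  | succ n ih => rw [pow_succ, Module.End.mul_apply, hv, ih]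

theorem fix_pow_of_coprime (T : Module.End K V) {n k : ℕ} (hn : T ^ n = 1) (hco : Nat.Coprime k n)
    {v : V} (hv : (T ^ k) v = v) : T v = v := by
  rcases Nat.eq_zero_or_pos n with rfl | hn0
  · rw [Nat.coprime_zero_right] at hco; subst hco; simpa using hv
  rcases Nat.eq_or_lt_of_le (Nat.one_le_iff_ne_zero.2 hn0.ne') with rfl | hn1
  · rw [pow_one] at hn; rw [hn]; rfl
  obtain ⟨j, -, hj⟩ := Nat.exists_mul_mod_eq_one_of_coprime hco hn1
  have h1 : T ^ (k * j) = T := by
    rw [← Nat.div_add_mod (k * j) n, pow_add, pow_mul, hn, one_pow, one_mul, hj, pow_one]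
  rw [← h1, pow_mul]
  exact app_pow_of_fix _ hv j

variable [FiniteDimensional K V]

theorem finrank_le_map_add_inf_ker {W : Type*} [AddCommGroup W] [Module K W] (T : V →ₗ[K] W)
    (U : Submodule K V) :
    finrank K U ≤ finrank K (U.map T) + finrank K ↥(U ⊓ LinearMap.ker T) := by
  have h := (T.domRestrict U).finrank_range_add_finrank_ker
  rw [LinearMap.range_domRestrict] at h
  have h2 : finrank K (LinearMap.ker (T.domRestrict U)) ≤ finrank K ↥(U ⊓ LinearMap.ker T) := by
    refine (le_of_eq (LinearEquiv.finrank_eq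
      (Submodule.equivMapOfInjective U.subtype U.injective_subtype (LinearMap.ker (T.domRestrict U))))).trans ?_
    refine Submodule.finrank_mono ?_
    rintro _ ⟨u, hu, rfl⟩
    exact ⟨u.2, hu⟩
  omega

theorem le_two_mul_finrank_ker_add (T : Module.End K V) :
    finrank K V ≤ 2 * finrank K (LinearMap.ker T) + finrank K (LinearMap.range (T * T)) := by
  have h1 := T.finrank_range_add_finrank_ker
  have h2 := finrank_le_map_add_inf_ker T (LinearMap.range T)
  have h3 : (LinearMap.range T).map T = LinearMap.range (T * T) := (LinearMap.range_comp T T).symm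
  have h4 : finrank K ↥(LinearMap.range T ⊓ LinearMap.ker T) ≤ finrank K (LinearMap.ker T) :=
    Submodule.finrank_mono inf_le_right
  rw [h3] at h2
  omega

/-- An element of order `char K` fixes a large subspace. -/
theorem of_char_eq {r : ℕ} (hr : r.Prime) [CharP K r] (hr6 : r ≤ 6) (ρ : G →* Module.End K V) {g : G}
    (hg : orderOf g = r) : HasLargeFix ρ := by
  haveI := Fact.mk hr
  refine ⟨g, fun h => hr.ne_one (by rw [← hg, h, orderOf_one]), ?_⟩
  set T : Module.End K V := ρ g - 1 with hT
  have hnil : T ^ r = 0 := by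
    rcases subsingleton_or_nontrivial V with hV | hV
    · exact Subsingleton.elim _ _
    haveI : CharP (Module.End K V) r :=
      charP_of_injective_algebraMap (FaithfulSMul.algebraMap_injective K (Module.End K V)) r
    rw [hT, sub_pow_char_of_commute r (Commute.one_right _), one_pow, ← map_pow,
      ← hg, pow_orderOf_eq_one, map_one, sub_self]
  have hle : ∀ j, finrank K (LinearMap.ker (T ^ j)) ≤ j * finrank K (fixSub (ρ g)) := by
    intro j
    induction j with
    | zero => simp [Module.End.one_eq_id]
    | succ j ih =>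
      have h2 := finrank_le_map_add_inf_ker (T ^ j) (LinearMap.ker (T ^ (j + 1)))
      have h3 : finrank K ((LinearMap.ker (T ^ (j + 1))).map (T ^ j)) ≤ finrank K (fixSub (ρ g)) :=
        Submodule.finrank_mono (by
          rintro _ ⟨v, hv, rfl⟩
          rw [SetLike.mem_coe, LinearMap.mem_ker, pow_succ'] at hv
          exact hv)
      have h4 : finrank K ↥(LinearMap.ker (T ^ (j + 1)) ⊓ LinearMap.ker (T ^ j)) ≤
          finrank K (LinearMap.ker (T ^ j)) := Submodule.finrank_mono inf_le_right
      rw [Nat.succ_mul]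
      omega
  have h := hle r
  rw [hnil, LinearMap.ker_zero, finrank_top] at h
  exact h.trans (Nat.mul_le_mul_right _ hr6)

/-- The sum of the powers of an element of order dividing `r` maps into its fixed space. -/
theorem sum_pow_mem_fixSub (T : Module.End K V) {r : ℕ} (hT : T ^ r = 1) (v : V) :
    ∑ i ∈ Finset.range r, (T ^ i) v ∈ fixSub T := by
  rw [mem_fixSub, map_sum]
  have h1 : ∀ i, T ((T ^ i) v) = (T ^ (i + 1)) v := fun i => by rw [pow_succ', Module.End.mul_apply]
  simp only [h1]
  have h2 := Finset.sum_range_succ' (fun i => (T ^ i) v) r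
  rw [Finset.sum_range_succ] at h2
  simp only [hT, pow_zero] at h2
  exact (add_right_cancel h2).symm

/-- An elementary abelian group of order `r²`, `r ≤ 5`, `r` invertible in `K`. -/
theorem of_elementary {r : ℕ} (hr : r.Prime) (hr5 : r ≤ 5) (hrK : (r : K) ≠ 0)
    (ρ : G →* Module.End K V) {a b : G} (hab : Commute a b) (har : a ^ r = 1) (hbr : b ^ r = 1)
    (hb : b ≠ 1) (ha : a ∉ Subgroup.zpowers b) : HasLargeFix ρ := by
  classical
  have hc : ∀ i : ℕ, a * b ^ i ≠ 1 := fun i h => ha (by
    rw [eq_inv_of_mul_eq_one_left h]; exact inv_mem (Subgroup.pow_mem _ (Subgroup.mem_zpowers b) i))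
  have hcr : ∀ i : ℕ, (a * b ^ i) ^ r = 1 := fun i => by
    rw [(hab.pow_right i).mul_pow, har, ← pow_mul, mul_comm, pow_mul, hbr, one_pow, one_mul]
  by_contra hno
  simp only [HasLargeFix, not_exists, not_and, not_le] at hno
  -- each vector is a combination of fixed vectors of the `r + 1` cyclic subgroups
  let S : ℕ → Submodule K V := fun i => if i < r then fixSub (ρ (a * b ^ i)) else fixSub (ρ b)
  have hspan : (⊤ : Submodule K V) ≤ (Finset.range (r + 1)).sup S := by
    rintro v -
    have hmem : ∀ i, i ≤ r → ∀ u ∈ S i, u ∈ (Finset.range (r + 1)).sup S := fun i hi u hu =>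
      (Finset.le_sup (f := S) (Finset.mem_range.2 (Nat.lt_succ_of_le hi))) hu
    have h1 : ∀ i < r, ∑ j ∈ Finset.range r, ρ ((a * b ^ i) ^ j) v ∈ (Finset.range (r + 1)).sup S := by
      intro i hi
      refine hmem i hi.le _ ?_
      simp only [S, hi, if_true, map_pow]
      exact sum_pow_mem_fixSub _ (by rw [← map_pow, hcr, map_one]) v
    have h2 : ∀ w, ∑ i ∈ Finset.range r, ρ (b ^ i) w ∈ (Finset.range (r + 1)).sup S := by
      intro w
      refine hmem r le_rfl _ ?_
      simp only [S, lt_irrefl, if_false, map_pow]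
      exact sum_pow_mem_fixSub _ (by rw [← map_pow, hbr, map_one]) w
    -- `r v = ∑ over i of ∑ over j of (a bⁱ)ʲ v - ∑ over j ≠ 0 of ...`
    have h3 : ∑ i ∈ Finset.range r, ∑ j ∈ Finset.range r, ρ ((a * b ^ i) ^ j) v
        = (r : K) • v + ∑ j ∈ (Finset.range r).erase 0, ∑ i ∈ Finset.range r, ρ (b ^ i) (ρ (a ^ j) v) := by
      rw [Finset.sum_comm, ← Finset.add_sum_erase _ _ (Finset.mem_range.2 hr.pos)]
      congr 1
      · simp only [pow_zero, map_one, Module.End.one_apply, Finset.sum_const, Finset.card_range]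
        exact (Nat.cast_smul_eq_nsmul K r v).symm
      · refine Finset.sum_congr rfl fun j hj => ?_
        obtain ⟨hj0, hjr⟩ := Finset.mem_erase.1 hj
        rw [Finset.mem_range] at hjr
        have hco : Nat.Coprime j r :=
          ((hr.coprime_iff_not_dvd).2 (Nat.not_dvd_of_pos_of_lt (Nat.pos_of_ne_zero hj0) hjr)).symm
        refine Finset.sum_bij (fun i _ => i * j % r) (fun i _ => Finset.mem_range.2 (Nat.mod_lt _ hr.pos))
          ?_ ?_ ?_
        · intro i hi i' hi' he
          rw [Finset.mem_range] at hi hi'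
          have h5 : i ≡ i' [MOD r] := Nat.ModEq.cancel_right_of_coprime (by rwa [Nat.Coprime, Nat.gcd_comm] at hco) he
          rwa [Nat.ModEq, Nat.mod_eq_of_lt hi, Nat.mod_eq_of_lt hi'] at h5
        · intro i hi
          rw [Finset.mem_range] at hi
          obtain ⟨j', -, hj'⟩ := Nat.exists_mul_mod_eq_one_of_coprime hco hr.one_lt
          refine ⟨i * j' % r, Finset.mem_range.2 (Nat.mod_lt _ hr.pos), ?_⟩
          show i * j' % r * j % r = i
          rw [Nat.mod_mul_mod, mul_assoc, mul_comm j' j, Nat.mul_mod, hj', mul_one, Nat.mod_mod,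
            Nat.mod_eq_of_lt hi]
        · intro i _
          rw [← app_mul, (hab.pow_right i).mul_pow, ← pow_mul]
          have hmod : b ^ (i * j) = b ^ (i * j % r) := by
            conv_lhs => rw [← Nat.div_add_mod (i * j) r, pow_add, pow_mul, hbr, one_pow, one_mul]
          rw [hmod, (hab.pow_pow j (i * j % r)).eq]
    have h4 : (r : K) • v ∈ (Finset.range (r + 1)).sup S := by
      rw [eq_sub_of_add_eq h3.symm]
      exact sub_mem (Submodule.sum_mem _ fun i hi => h1 i (Finset.mem_range.1 hi))
        (Submodule.sum_mem _ fun j _ => h2 _)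
    rw [← inv_smul_smul₀ hrK v]
    exact Submodule.smul_mem _ _ h4
  have hdim : finrank K V ≤ ∑ i ∈ Finset.range (r + 1), finrank K (S i) := by
    rw [← finrank_top K V]
    refine (Submodule.finrank_mono hspan).trans ?_
    generalize Finset.range (r + 1) = s
    induction s using Finset.induction_on with
    | empty => simp
    | insert i s his ih =>
      rw [Finset.sup_insert, Finset.sum_insert his]
      exact (Submodule.finrank_add_le_finrank_add_finrank _ _).trans (Nat.add_le_add_left ih _)
  have hlt : ∀ i ∈ Finset.range (r + 1), 6 * finrank K (S i) < finrank K V := fun i _ => by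
    by_cases hi : i < r
    · rw [show S i = fixSub (ρ (a * b ^ i)) from if_pos hi]; exact hno _ (hc i)
    · rw [show S i = fixSub (ρ b) from if_neg hi]; exact hno _ hb
  have hs := Finset.sum_lt_sum_of_nonempty (by simp) hlt
  rw [← Finset.mul_sum, Finset.sum_const, Finset.card_range, smul_eq_mul] at hs
  have h6 : (r + 1) * finrank K V ≤ 6 * finrank K V := Nat.mul_le_mul_right _ (by omega)
  omega

/-- An involution inverting an element of odd order. -/
theorem of_inverted (h2 : (2 : K) ≠ 0) (ρ : G →* Module.End K V) {z a : G} (hz : z * z = 1) (hz1 : z ≠ 1)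
    (ha : z * a * z = a⁻¹) (ha1 : a ≠ 1) {m : ℕ} (hm : Odd m) (ham : a ^ m = 1) : HasLargeFix ρ := by
  set L : Module.End K V := ρ a - ρ a⁻¹ with hL
  have hzz : ρ z * ρ z = 1 := by rw [← map_mul, hz, map_one]
  have hza : ρ z * ρ a = ρ a⁻¹ * ρ z := by
    rw [← map_mul, ← map_mul, ← ha, mul_assoc _ z z, hz, mul_one]
  have hza' : ρ z * ρ a⁻¹ = ρ a * ρ z := by
    rw [← map_mul, ← map_mul, ← ha, ← mul_assoc, ← mul_assoc, hz, one_mul]
  have hzL : ρ z * L = -(L * ρ z) := by rw [hL, mul_sub, sub_mul, hza, hza', neg_sub]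
  set Wm : Submodule K V := LinearMap.ker (ρ z + 1) with hWm
  have hmem : ∀ v, v ∈ Wm ↔ ρ z v = -v := fun v => by
    rw [hWm, LinearMap.mem_ker, LinearMap.add_apply, Module.End.one_apply, add_eq_zero_iff_eq_neg]
  have hdim : finrank K V ≤ finrank K (fixSub (ρ z)) + finrank K Wm := by
    rw [← finrank_top K V]
    refine (Submodule.finrank_mono (t := fixSub (ρ z) ⊔ Wm) ?_).trans
      (Submodule.finrank_add_le_finrank_add_finrank _ _)
    rintro v -
    have hv : v = (2 : K)⁻¹ • (v + ρ z v) + (2 : K)⁻¹ • (v - ρ z v) := by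
      rw [← smul_add, show v + ρ z v + (v - ρ z v) = (2 : K) • v by rw [two_smul]; abel, inv_smul_smul₀ h2]
    have hzzv : ρ z (ρ z v) = v := by rw [← Module.End.mul_apply, hzz]; rfl
    rw [hv]
    refine Submodule.add_mem_sup (Submodule.smul_mem _ _ ?_) (Submodule.smul_mem _ _ ?_)
    · rw [mem_fixSub, map_add, hzzv, add_comm]
    · rw [hmem, map_sub, hzzv, neg_sub]
  have h5 := finrank_le_map_add_inf_ker L Wm
  have h6 : finrank K (Wm.map L) ≤ finrank K (fixSub (ρ z)) :=
    Submodule.finrank_mono (by
      rintro _ ⟨v, hv, rfl⟩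
      rw [mem_fixSub]
      show (ρ z * L) v = L v
      rw [hzL, LinearMap.neg_apply, Module.End.mul_apply, (hmem v).1 hv, map_neg, neg_neg])
  have h7 : finrank K ↥(Wm ⊓ LinearMap.ker L) ≤ finrank K (fixSub (ρ a)) :=
    Submodule.finrank_mono (by
      rintro v ⟨-, hv⟩
      rw [mem_fixSub]
      have hu : ρ a v = ρ a⁻¹ v := sub_eq_zero.1 hv
      refine fix_pow_of_coprime (ρ a) (n := m) (k := 2) (by rw [← map_pow, ham, map_one])
        (Nat.coprime_two_left.2 hm) ?_
      rw [pow_two, Module.End.mul_apply, hu, ← app_mul, mul_inv_cancel, app_one])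
  by_contra hno
  simp only [HasLargeFix, not_exists, not_and, not_le] at hno
  have := hno z hz1
  have := hno a ha1
  omega

end Cfsg.Agent.FixSixth
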