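import Cfsg.Agent.Lib.FixSixth.SymPow
import Cfsg.Agent.Lib.Coprime.Basic
import Cfsg.Agent.Lib.Law.Classical

/-!
# A binary tetrahedral group in `SL₂(p)` (S5720; owner helper90)

* `exists_tetra` : a subgroup of order `2 ^ k · 3` generated by `i`, `j` of order four and `x` of order three
* `normal_eq_top` : a normal subgroup of `SL₂(p)` with a noncentral element is everything
-/

set_option autoImplicit false
set_option linter.unusedSectionVars false
set_option linter.style.haveILetI false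

open Matrix Subgroup
open scoped MatrixGroups commutatorElement

namespace Cfsg.Agent.FixSixth

variable {p : ℕ} [Fact p.Prime]

theorem mul_three_eq_one (g : SL(2, ZMod p)) (ht : g.1 0 0 + g.1 1 1 = -1) : g * g * g = 1 := by
  have hdet : g.1 0 0 * g.1 1 1 - g.1 0 1 * g.1 1 0 = 1 := by rw [← Matrix.det_fin_two]; exact g.2
  have h : g * g = g⁻¹ := by
    refine Subtype.ext ?_
    show g.1 * g.1 = adjugate g.1
    rw [adjugate_fin_two]
    ext i j
    fin_cases i <;> fin_cases j <;> simp [Matrix.mul_apply, Fin.sum_univ_two]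
    · linear_combination (g.1 0 0 - 1) * ht - hdet
    · linear_combination (g.1 0 1) * ht
    · linear_combination (g.1 1 0) * ht
    · linear_combination (g.1 1 1 - 1) * ht - hdet
  rw [h, inv_mul_cancel]

theorem two_ne_zero_zmod (hp : 3 ≤ p) : (2 : ZMod p) ≠ 0 := fun h => by
  have h' : ((2 : ℕ) : ZMod p) = 0 := by exact_mod_cast h
  rw [CharP.cast_eq_zero_iff (ZMod p) p] at h'
  have := Nat.le_of_dvd two_pos h'
  omega

/-- Generators of a binary tetrahedral group, with their relations. -/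
structure Tetra (G : Type*) [Group G] where
  (i j x z : G)
  hii : i * i = z
  hjj : j * j = z
  hji : j * i = z * (i * j)
  hzz : z * z = 1
  hzx : z * x = x * z
  hx : x * x * x = 1
  hxi : x * i = j * x
  hxj : x * j = i * j * x

/-- The subgroup it generates. -/
def Tetra.gen {G : Type*} [Group G] (T : Tetra G) : Subgroup G :=
  zpowers T.i ⊔ zpowers T.j ⊔ zpowers T.x

theorem Tetra.mem_gen {G : Type*} [Group G] (T : Tetra G) :
    T.i ∈ T.gen ∧ T.j ∈ T.gen ∧ T.x ∈ T.gen ∧ T.z ∈ T.gen :=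
  ⟨mem_sup_left (mem_sup_left (mem_zpowers _)), mem_sup_left (mem_sup_right (mem_zpowers _)),
    mem_sup_right (mem_zpowers _),
    T.hii ▸ mul_mem (mem_sup_left (mem_sup_left (mem_zpowers _))) (mem_sup_left (mem_sup_left (mem_zpowers _)))⟩

theorem Tetra.card_gen {G : Type*} [Group G] [Finite G] (T : Tetra G) (hx1 : T.x ≠ 1) :
    ∃ k, Nat.card T.gen = 2 ^ k * 3 := by
  haveI := Fact.mk Nat.prime_two
  have hzi : T.z * T.i = T.i * T.z := by rw [← T.hii, mul_assoc]
  have h4 : ∀ y : G, y * y = T.z → IsPGroup 2 (zpowers y) := fun y hy w => ⟨2, by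
    obtain ⟨_, n, rfl⟩ := w
    refine Subtype.ext ?_
    show (y ^ n) ^ 2 ^ 2 = 1
    have e : y ^ 4 = 1 := by rw [pow_succ, pow_succ, pow_two, hy, mul_assoc, hy, T.hzz]
    rw [show (2 : ℕ) ^ 2 = 4 from rfl, ← zpow_natCast, ← _root_.zpow_mul, mul_comm, _root_.zpow_mul, zpow_natCast,
      e, _root_.one_zpow]⟩
  have hjn : zpowers T.j ≤ normalizer (zpowers T.i : Set G) := by
    rw [zpowers_le]
    refine Coprime.mem_normalizer_of_forall fun w hw => ?_
    obtain ⟨n, rfl⟩ := mem_zpowers_iff.1 hw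
    have e : T.j * T.i * T.j⁻¹ = T.z * T.i := by
      rw [T.hji, ← mul_assoc, mul_inv_cancel_right]
    rw [← MulAut.conj_apply, map_zpow, MulAut.conj_apply, e]
    exact zpow_mem (mul_mem (T.hii ▸ mul_mem (mem_zpowers _) (mem_zpowers _)) (mem_zpowers _)) n
  obtain ⟨k, hk⟩ := IsPGroup.iff_card.1
    (IsPGroup.to_sup_of_normal_left' (h4 _ T.hii) (h4 _ T.hjj) hjn)
  have hxn : zpowers T.x ≤ normalizer ((zpowers T.i ⊔ zpowers T.j : Subgroup G) : Set G) := by
    rw [zpowers_le]
    refine Coprime.mem_normalizer_of_forall fun w hw => ?_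
    have hle : (zpowers T.i ⊔ zpowers T.j).map (MulAut.conj T.x).toMonoidHom ≤ zpowers T.i ⊔ zpowers T.j := by
      rw [Subgroup.map_sup, MonoidHom.map_zpowers, MonoidHom.map_zpowers, sup_le_iff, zpowers_le, zpowers_le]
      simp only [MulEquiv.coe_toMonoidHom, MulAut.conj_apply]
      rw [T.hxi, mul_inv_cancel_right, T.hxj, mul_inv_cancel_right]
      exact ⟨mem_sup_right (mem_zpowers _),
        mul_mem (mem_sup_left (mem_zpowers _)) (mem_sup_right (mem_zpowers _))⟩
    exact hle ⟨w, hw, rfl⟩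
  have h3 : Nat.card (zpowers T.x) = 3 := by
    haveI := Fact.mk Nat.prime_three
    rw [Nat.card_zpowers, orderOf_eq_prime (by rw [pow_succ, pow_two, T.hx]) hx1]
  refine ⟨k, ?_⟩
  rw [Tetra.gen, Coprime.card_sup_of_coprime hxn
    (by rw [hk, h3]; exact Nat.Coprime.pow_left k (by norm_num)), hk, h3]

/-- A binary tetrahedral group in `SL₂(p)`. -/
theorem exists_tetra (hp : 5 ≤ p) : ∃ T : Tetra SL(2, ZMod p), T.x ≠ 1 ∧ T.z ≠ 1 ∧
    T.i ∉ center SL(2, ZMod p) := by
  have h2 := two_ne_zero_zmod (p := p) (by omega)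
  obtain ⟨a, b, hab⟩ := ZMod.sq_add_sq p (-1)
  set h : ZMod p := 2⁻¹ with hdef
  have hh : 2 * h = 1 := mul_inv_cancel₀ h2
  let I : SL(2, ZMod p) := wE p
  let J : SL(2, ZMod p) := ⟨!![a, b; b, -a], by rw [Matrix.det_fin_two_of]; linear_combination -hab⟩
  let X : SL(2, ZMod p) := ⟨!![-h * (1 + a + b), -h * (1 + b - a); -h * (-1 + b - a), -h * (1 - a - b)],
    by rw [Matrix.det_fin_two_of]; linear_combination (-2 * h ^ 2) * hab + (2 * h + 1) * hh⟩
  let Z : SL(2, ZMod p) := wE p * wE p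
  have hI : I.1 = !![0, 1; -1, 0] := rfl
  have hJ : J.1 = !![a, b; b, -a] := rfl
  have hX : X.1 = !![-h * (1 + a + b), -h * (1 + b - a); -h * (-1 + b - a), -h * (1 - a - b)] := rfl
  have hZ : Z.1 = !![-1, 0; 0, -1] := by
    show (wE p).1 * (wE p).1 = _
    ext i j
    fin_cases i <;> fin_cases j <;> simp [wE, Matrix.mul_apply, Fin.sum_univ_two]
  refine ⟨⟨I, J, X, Z, rfl, ?_, ?_, ?_, ?_, mul_three_eq_one X ?_, ?_, ?_⟩, fun e => ?_, fun e => ?_,
    fun e => ?_⟩
  rotate_left 4
  · rw [hX]; simp; linear_combination -hh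
  rotate_left 2
  · have := congrArg (fun g : SL(2, ZMod p) => g.1 0 0 + g.1 1 1) e
    simp [hX] at this
    refine two_ne_zero_zmod (p := p) (by omega) ?_
    have h3 : (3 : ZMod p) = 0 := by linear_combination -this - hh
    exfalso
    have h3' : ((3 : ℕ) : ZMod p) = 0 := by exact_mod_cast h3
    rw [CharP.cast_eq_zero_iff (ZMod p) p] at h3'
    have := Nat.le_of_dvd (by norm_num) h3'
    omega
  · have := congrArg (fun g : SL(2, ZMod p) => g.1 0 0) e
    simp [hZ] at this
    exact h2 (by linear_combination -this)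
  · obtain ⟨r, -, hr⟩ := Matrix.SpecialLinearGroup.mem_center_iff.1 e
    have := congrFun (congrFun hr 0) 1
    simp [hI] at this
  all_goals
    refine Subtype.ext ?_
    simp only [Matrix.SpecialLinearGroup.coe_mul, Matrix.SpecialLinearGroup.coe_one, hI, hJ, hX, hZ]
    ext i j
    fin_cases i <;> fin_cases j <;> simp [Matrix.mul_apply, Fin.sum_univ_two] <;> grind

theorem normal_eq_top (hp : 5 ≤ p) {M : Subgroup SL(2, ZMod p)} [M.Normal] {g : SL(2, ZMod p)}
    (hg : g ∈ M) (hgc : g ∉ center SL(2, ZMod p)) : M = ⊤ := by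
  haveI := Matrix.ProjectiveSpecialLinearGroup.rank_two_simple (F := ZMod p) (by rw [Nat.card_zmod]; omega)
  let q := QuotientGroup.mk' (center SL(2, ZMod p))
  have hq : Function.Surjective q := QuotientGroup.mk'_surjective _
  have hn : (M.map q).Normal := Subgroup.Normal.map inferInstance q hq
  rcases hn.eq_bot_or_eq_top with h | h
  · exact absurd ((QuotientGroup.eq_one_iff g).1 (Subgroup.mem_bot.1 (h.le ⟨g, hg, rfl⟩))) hgc
  have hsup : M ⊔ center SL(2, ZMod p) = ⊤ := by
    have := congrArg (Subgroup.comap q) h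
    rwa [Subgroup.comap_map_eq, QuotientGroup.ker_mk', Subgroup.comap_top] at this
  have hc : ⁅(⊤ : Subgroup SL(2, ZMod p)), ⊤⁆ ≤ M := by
    refine Subgroup.commutator_le.2 fun a _ b _ => ?_
    obtain ⟨m, hm, c, hc, rfl⟩ := Subgroup.mem_sup_of_normal_right.1 (hsup.ge (mem_top a))
    have e : ⁅m * c, b⁆ = m * (b * m⁻¹ * b⁻¹) := by
      rw [commutatorElement_def]
      calc m * c * b * (m * c)⁻¹ * b⁻¹ = m * (c * b) * (c⁻¹ * m⁻¹) * b⁻¹ := by group
        _ = m * (b * c) * (c⁻¹ * m⁻¹) * b⁻¹ := by rw [Subgroup.mem_center_iff.1 hc b]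
        _ = _ := by group
    rw [e]
    exact mul_mem hm (‹M.Normal›.conj_mem _ (inv_mem hm) b)
  rw [← _root_.commutator_def, Law.commutator_sl2_eq_top (by rw [ZMod.card]; omega)] at hc
  exact top_le_iff.1 hc

end Cfsg.Agent.FixSixth
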