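import Cfsg.Agent.Lib.FixSixth.Basic

/-!
# A quaternion group of automorphisms of an abelian group (statement S5720; owner helper90)

`of_quaternion` : if `⟨y, j⟩ ⋊ ⟨x⟩ ≅ Q₈ ⋊ 3` and `y` centralises, `j` inverts an element `v` of odd order
commuting with its `x`-conjugate, then `dim V ≤ 4 dim C(x) + 2 dim C(v)`.
-/

set_option autoImplicit false
set_option linter.unusedSectionVars false

open Module

namespace Cfsg.Agent.FixSixth

open FixedHalf (fixSub mem_fixSub)

variable {K : Type*} [Field K] {W : Type*} [AddCommGroup W] [Module K W] [FiniteDimensional K W]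

section Parts

variable {X Y J L : Module.End K W}

/-- The part on which the quaternion group is faithful. -/
theorem minus_part (h2 : (2 : K) ≠ 0) (h3 : (3 : K) ≠ 0) (hX : X * X * X = 1) (hY : Y * Y = -1)
    (hJ : J * J = -1) (hJY : J * Y = -(Y * J)) (hXY : X * Y = J * X) (hXJ : X * J = Y * J * X)
    (hYL : Y * L = L * Y) (hJL : J * L = -(L * J))
    (hLL : L * (X * L * (X * X)) = X * L * (X * X) * L) :
    finrank K W ≤ 4 * finrank K (fixSub X) + 2 * finrank K (LinearMap.ker L) := by
  set c : K := (2 : K)⁻¹ with hc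
  set P : Module.End K W := Y + J + Y * J with hP
  have hY' : ∀ a, Y * (Y * a) = -a := fun a => by rw [← mul_assoc, hY, neg_one_mul]
  have hJ' : ∀ a, J * (J * a) = -a := fun a => by rw [← mul_assoc, hJ, neg_one_mul]
  have hJY' : ∀ a, J * (Y * a) = -(Y * (J * a)) := fun a => by
    rw [← mul_assoc, hJY, neg_mul, mul_assoc]
  have hJYJ : J * Y * J = Y := by
    simp only [mul_assoc, hY, hJ, hJY, hY', hJ', hJY', mul_neg, neg_mul, neg_neg, mul_one]
  have hKK : Y * J * (Y * J) = -1 := by
    simp only [mul_assoc, hY, hJ, hJY, hY', hJ', hJY', mul_neg, neg_mul, neg_neg, mul_one]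
  have hPP : P * P = -(3 : K) • (1 : Module.End K W) := by
    simp only [hP, mul_add, add_mul, mul_assoc, hY, hJ, hJY, hY', hJ', hJY', mul_neg, neg_mul, neg_neg,
      mul_one]
    module
  set q : Module.End K W := -(c • (1 + P)) with hq
  set q' : Module.End K W := -(c • (1 - P)) with hq'
  have hc2 : c * 2 = 1 := inv_mul_cancel₀ h2
  clear_value q q'
  have hq0 : ∀ a b a' b' : K, (a • (1 : Module.End K W) + b • P) * (a' • 1 + b' • P)
      = (a * a' - 3 * (b * b')) • 1 + (a * b' + b * a') • P := fun a b a' b' => by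
    simp only [add_mul, mul_add, smul_mul_assoc, mul_smul_comm, one_mul, mul_one, hPP]
    module
  have hqe : q = (-c) • (1 : Module.End K W) + (-c) • P := by rw [hq]; module
  have hqe' : q' = (-c) • (1 : Module.End K W) + c • P := by rw [hq']; module
  have hqq' : q * q' = 1 := by
    rw [hqe, hqe', hq0]
    match_scalars <;> first | linear_combination (c * 2 + 1) * hc2 | ring
  have hq'2 : q' * q' = q := by
    rw [hqe, hqe', hq0]
    match_scalars <;> first | linear_combination (-c) * hc2 | ring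
  have hq2 : q * q = q' := by
    rw [hqe, hqe', hq0]
    match_scalars <;> first | linear_combination (-c) * hc2 | linear_combination c * hc2
  have hq'q : q' * q = 1 := by
    calc q' * q = q * q * q := by rw [hq2]
      _ = q * (q * q) := mul_assoc _ _ _
      _ = 1 := by rw [hq2, hqq']
  have hqsum : q + q' = -1 := by
    rw [hqe, hqe']
    match_scalars <;> first | linear_combination (-1 : K) * hc2 | ring
  have hXK : X * (Y * J) = Y * X := by
    rw [← mul_assoc, hXY, mul_assoc, hXJ, ← mul_assoc, ← mul_assoc, hJYJ]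
  have hXP : X * P = P * X := by rw [hP, mul_add, mul_add, hXY, hXJ, hXK, ← add_mul, ← add_mul]; abel_nf
  have hAY : (1 + P) * Y = J * (1 + P) := by
    simp only [hP, mul_add, add_mul, mul_assoc, hY, hJ, hJY, hY', hJ', hJY', mul_neg, neg_mul, neg_neg,
      mul_one, one_mul]
    abel
  have hAJ : (1 + P) * J = Y * J * (1 + P) := by
    simp only [hP, mul_add, add_mul, mul_assoc, hY, hJ, hJY, hY', hJ', hJY', mul_neg, neg_mul, neg_neg,
      mul_one, one_mul]
    abel
  have hqY : q * Y = J * q := by rw [hq, neg_mul, smul_mul_assoc, hAY, mul_neg, mul_smul_comm]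
  have hqJ : q * J = Y * J * q := by rw [hq, neg_mul, smul_mul_assoc, hAJ, mul_neg, mul_smul_comm]
  have hqK : q * (Y * J) = Y * q := by
    rw [← mul_assoc, hqY, mul_assoc, hqJ, ← mul_assoc, ← mul_assoc, hJYJ]
  have hq'J : q' * J = Y * q' := by
    calc q' * J = q' * (J * (q * q')) := by rw [hqq', mul_one]
      _ = q' * (q * Y) * q' := by rw [hqY]; simp only [mul_assoc]
      _ = Y * q' := by rw [← mul_assoc q', hq'q, one_mul]
  have hq'Y : q' * Y = Y * J * q' := by
    calc q' * Y = q' * (Y * (q * q')) := by rw [hqq', mul_one]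
      _ = q' * (q * (Y * J)) * q' := by rw [hqK]; simp only [mul_assoc]
      _ = Y * J * q' := by rw [← mul_assoc q', hq'q, one_mul]
  -- the element commuting with the quaternion group
  set ξ : Module.End K W := X * q' with hξ
  clear_value ξ
  have hξY : ξ * Y = Y * ξ := by
    rw [hξ, mul_assoc, hq'Y, ← mul_assoc, hXK, mul_assoc]
  have hξJ : ξ * J = J * ξ := by rw [hξ, mul_assoc, hq'J, ← mul_assoc, hXY, mul_assoc]
  have hξP : ξ * P = P * ξ := by
    rw [hP, mul_add, mul_add, add_mul, add_mul, hξY, hξJ, ← mul_assoc ξ Y J, hξY, mul_assoc Y ξ J,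
      hξJ, ← mul_assoc]
  have hXq' : X * q' = q' * X := by
    rw [hqe', mul_add, add_mul, mul_smul_comm, mul_smul_comm, mul_one, hXP, smul_mul_assoc, smul_mul_assoc,
      one_mul]
  have hξq : Commute ξ q := by
    show ξ * q = q * ξ
    rw [hqe, mul_add, add_mul, mul_smul_comm, mul_smul_comm, mul_one, hξP, smul_mul_assoc, smul_mul_assoc,
      one_mul]
  have hξq' : Commute ξ q' := by rw [← hq2]; exact hξq.mul_right hξq
  have hXξ : X = ξ * q := by rw [hξ, mul_assoc, hq'q, mul_one]
  have hXX : X * X = ξ * ξ * q' := by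
    rw [hXξ, mul_assoc, ← mul_assoc q, ← hξq.eq, mul_assoc ξ q q, hq2, ← mul_assoc]
  have hξ3 : ξ * ξ * ξ = 1 := by
    calc ξ * ξ * ξ = ξ * ξ * (q' * q) * ξ := by rw [hq'q, mul_one]
      _ = ξ * ξ * q' * (ξ * q) := by rw [hξq.eq]; simp only [mul_assoc]
      _ = 1 := by rw [← hXX, ← hXξ, hX]
  -- rank of `ξ - 1`
  set R : Module.End K W := 1 + X + X * X with hR
  set R' : Module.End K W := 1 + ξ * q' + ξ * ξ * q with hR'
  clear_value R R'
  have hXR : X * R = R := by rw [hR, mul_add, mul_add, mul_one, ← mul_assoc, hX]; abel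
  have hRfix : LinearMap.range R ≤ fixSub X := by
    rintro _ ⟨v, rfl⟩
    rw [mem_fixSub, ← Module.End.mul_apply, hXR]
  set T : Module.End K W := Y - J with hT
  clear_value T
  have hTT : T * T = -(2 : K) • (1 : Module.End K W) := by
    simp only [hT, mul_sub, sub_mul, mul_assoc, hY, hJ, hJY, mul_neg, neg_mul, neg_neg]
    module
  have hTP : T * P = -(P * T) := by
    simp only [hT, hP, mul_add, add_mul, mul_sub, sub_mul, mul_assoc, hY, hJ, hJY, hY', hJ', hJY', mul_neg,
      neg_mul, neg_neg, mul_one]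
    abel
  have hTq : T * q = q' * T := by
    rw [hqe, hqe', mul_add, add_mul, mul_smul_comm, mul_smul_comm, mul_one, hTP, smul_mul_assoc,
      smul_mul_assoc, one_mul, smul_neg, neg_smul, neg_smul]
    abel
  have hTξ : T * ξ = ξ * T := by rw [hT, sub_mul, mul_sub, hξY, hξJ]
  have hTq' : T * q' = q * T := by
    rw [← hq2, ← mul_assoc, hTq, mul_assoc, hTq, ← mul_assoc, hq'2]
  have hTR : T * R = R' * T := by
    rw [hR, hR', mul_add, mul_add, mul_one, add_mul, add_mul, one_mul, hXX, hXξ]
    congr 1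
    · congr 1
      rw [← mul_assoc, hTξ, mul_assoc, hTq, ← mul_assoc]
    · rw [← mul_assoc, ← mul_assoc, hTξ, mul_assoc ξ T ξ, hTξ, ← mul_assoc, mul_assoc, hTq', ← mul_assoc]
  have hR'range : LinearMap.range R' ≤ (LinearMap.range R).map T := by
    rintro _ ⟨v, rfl⟩
    refine ⟨R (-c • T v), ⟨_, rfl⟩, ?_⟩
    rw [← Module.End.mul_apply, hTR, Module.End.mul_apply, map_smul, ← Module.End.mul_apply T T, hTT,
      LinearMap.smul_apply, smul_smul, show -c * -(2 : K) = 1 by rw [neg_mul_neg, hc2], one_smul,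
      Module.End.one_apply]
  have hsum : (R + R') * ((4 : K) • 1 - (2 : K) • ξ + ξ * ξ) = (9 : K) • (1 - ξ) := by
    have e : R + R' = (2 : K) • 1 - ξ - ξ * ξ := by
      calc R + R' = (1 + 1 : Module.End K W) + ξ * (q + q') + ξ * ξ * (q' + q) := by
            rw [hR, hR', hXX, hXξ, mul_add, mul_add]; abel
        _ = _ := by rw [add_comm q' q, hqsum, mul_neg, mul_neg, mul_one, mul_one]; module
    rw [e]
    simp only [mul_sub, sub_mul, mul_add, smul_mul_assoc, mul_smul_comm, one_mul, mul_one, ← mul_assoc,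
      hξ3]
    module
  have h9 : (9 : K) ≠ 0 := by
    rw [show (9 : K) = 3 * 3 by norm_num]; exact mul_ne_zero h3 h3
  set P0 : Submodule K W := LinearMap.range (ξ - 1) with hP0
  have hP0R : P0 ≤ LinearMap.range R ⊔ LinearMap.range R' := by
    rintro _ ⟨v, rfl⟩
    have e : (ξ - 1) v = (R + R') ((-(9 : K)⁻¹) • ((4 : K) • 1 - (2 : K) • ξ + ξ * ξ) v) := by
      rw [map_smul, ← Module.End.mul_apply, hsum, LinearMap.smul_apply, smul_smul, neg_mul,
        inv_mul_cancel₀ h9, neg_one_smul, ← LinearMap.neg_apply, neg_sub]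
    rw [e, LinearMap.add_apply]
    exact Submodule.add_mem_sup ⟨_, rfl⟩ ⟨_, rfl⟩
  have hr : finrank K P0 ≤ 2 * finrank K (fixSub X) := by
    have a1 := (Submodule.finrank_mono hP0R).trans (Submodule.finrank_add_le_finrank_add_finrank _ _)
    have a2 := (Submodule.finrank_mono hR'range).trans (Submodule.finrank_map_le _ _)
    have a3 := Submodule.finrank_mono hRfix
    omega
  -- the multiplicity operator
  set m : Module.End K W := -(Y * L) with hm
  clear_value m
  have hmY : m * Y = Y * m := by rw [hm, neg_mul, mul_assoc, ← hYL, mul_neg]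
  have hmJ : m * J = J * m := by
    rw [hm, neg_mul, mul_assoc, mul_neg, ← mul_assoc J, hJY, neg_mul, neg_neg, mul_assoc, hJL, mul_neg]
  have hLm : L = Y * m := by rw [hm, mul_neg, ← mul_assoc, hY, neg_one_mul, neg_neg]
  have hmP : Commute m P := by
    show m * P = P * m
    rw [hP, mul_add, mul_add, add_mul, add_mul, hmY, hmJ, ← mul_assoc m Y J, hmY, mul_assoc Y m J, hmJ,
      ← mul_assoc]
  have hmq : Commute m q := by
    show m * q = q * m
    rw [hqe, mul_add, add_mul, mul_smul_comm, mul_smul_comm, mul_one, hmP.eq, smul_mul_assoc, smul_mul_assoc,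
      one_mul]
  set m' : Module.End K W := ξ * m * (ξ * ξ) with hm'
  have hL' : X * L * (X * X) = J * m' := by
    calc X * L * (X * X) = J * (X * m * (X * X)) := by
          rw [hLm, ← mul_assoc X Y m, hXY]
          simp only [mul_assoc]
      _ = J * (ξ * q * m * (ξ * ξ * q')) := by rw [hXX, ← hXξ]
      _ = J * (ξ * m * (ξ * ξ) * (q * q')) := by
          rw [show ξ * q * m * (ξ * ξ * q') = ξ * (q * m) * (ξ * ξ) * q' by simp only [mul_assoc],
            ← hmq.eq, show ξ * (m * q) * (ξ * ξ) * q' = ξ * m * (q * (ξ * ξ)) * q' by simp only [mul_assoc],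
            ← (hξq.mul_left hξq).eq]
          simp only [mul_assoc]
      _ = J * m' := by rw [hqq', mul_one]
  have hm'Y : m' * Y = Y * m' := by
    rw [hm']
    have e : Commute (ξ * ξ) Y := (Commute.mul_left hξY hξY)
    calc ξ * m * (ξ * ξ) * Y = ξ * (m * Y) * (ξ * ξ) := by rw [mul_assoc _ (ξ * ξ), e.eq]; simp only [mul_assoc]
      _ = Y * (ξ * m * (ξ * ξ)) := by rw [hmY, ← mul_assoc ξ, hξY]; simp only [mul_assoc]
  have hS : m * m' + m' * m = 0 := by
    have e : Y * J * (m * m' + m' * m) = 0 := by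
      rw [mul_add]
      have e1 : L * (J * m') = Y * J * (m * m') := by
        rw [hLm, show Y * m * (J * m') = Y * (m * J) * m' by simp only [mul_assoc], hmJ]
        simp only [mul_assoc]
      have e2 : J * m' * L = -(Y * J * (m' * m)) := by
        rw [hLm, show J * m' * (Y * m) = J * (m' * Y) * m by simp only [mul_assoc], hm'Y, ← mul_assoc J,
          hJY]
        simp only [neg_mul, mul_assoc]
      rw [hL'] at hLL
      rw [e1, e2] at hLL
      rw [hLL, neg_add_cancel]
    have e' := congrArg (fun U => Y * J * U) e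
    simp only [mul_zero, ← mul_assoc] at e'
    rwa [show Y * J * Y * J = Y * J * (Y * J) by simp only [mul_assoc], hKK, neg_one_mul, neg_eq_zero] at e'
  -- `m² W` lies in `P + m P`
  set Z : Submodule K W := P0 ⊔ P0.map m with hZ
  have hmem : ∀ u, (ξ - 1) u ∈ P0 := fun u => ⟨u, rfl⟩
  have hinv : ∀ w, ∃ u, w = u + ξ (ξ u) := fun w =>
    ⟨c • (w - ξ (ξ w) + ξ w), by
      have h4 : ξ (ξ (ξ w)) = w := by rw [← Module.End.mul_apply, ← Module.End.mul_apply, hξ3]; rfl
      simp only [map_smul, map_add, map_sub, h4]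
      rw [← smul_add, show w - ξ (ξ w) + ξ w + (ξ (ξ w) - ξ w + w) = (2 : K) • w by rw [two_smul]; abel,
        smul_smul, hc2, one_smul]⟩
  have hmm : LinearMap.range (m * m) ≤ Z := by
    rintro _ ⟨w, rfl⟩
    obtain ⟨u, rfl⟩ := hinv w
    have h0 : m (ξ (m (ξ (ξ u)))) + ξ (m (ξ (ξ (m u)))) = 0 := by
      have := LinearMap.congr_fun hS u
      simpa only [hm', LinearMap.add_apply, Module.End.mul_apply, LinearMap.zero_apply] using this
    have k1 : m ((ξ - 1) (m (ξ (ξ u)))) ∈ Z := Submodule.mem_sup_right ⟨_, hmem _, rfl⟩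
    have k2 : (ξ - 1) (m (ξ (ξ (m u)))) ∈ Z := Submodule.mem_sup_left (hmem _)
    have k3 : m ((ξ - 1) (ξ (m u) + m u)) ∈ Z := Submodule.mem_sup_right ⟨_, hmem _, rfl⟩
    have e : (m * m) (u + ξ (ξ u)) =
        -(m ((ξ - 1) (m (ξ (ξ u)))) + (ξ - 1) (m (ξ (ξ (m u)))) + m ((ξ - 1) (ξ (m u) + m u))) := by
      simp only [Module.End.mul_apply, LinearMap.sub_apply, Module.End.one_apply, map_add, map_sub]
      rw [eq_neg_iff_add_eq_zero]
      calc _ = m (ξ (m (ξ (ξ u)))) + ξ (m (ξ (ξ (m u)))) := by abel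
        _ = 0 := h0
    rw [e]
    exact neg_mem (add_mem (add_mem k1 k2) k3)
  have a1 := le_two_mul_finrank_ker_add m
  have a2 : finrank K (LinearMap.range (m * m)) ≤ finrank K P0 + finrank K P0 :=
    ((Submodule.finrank_mono hmm).trans (Submodule.finrank_add_le_finrank_add_finrank _ _)).trans
      (Nat.add_le_add_left (Submodule.finrank_map_le _ _) _)
  have a3 : finrank K (LinearMap.ker m) ≤ finrank K (LinearMap.ker L) := Submodule.finrank_mono (fun u hu => by
    rw [LinearMap.mem_ker, hLm, Module.End.mul_apply, LinearMap.mem_ker.1 hu, map_zero])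
  omega

/-- The part on which the quaternion group acts as a four group. -/
theorem plus_part (h2 : (2 : K) ≠ 0) (hX : X * X * X = 1) (hY : Y * Y = 1) (hJ : J * J = 1)
    (hJY : J * Y = Y * J) (hXY : X * Y = J * X) (hXJ : X * J = Y * J * X)
    (hYL : Y * L = L * Y) (hJL : J * L = -(L * J)) :
    finrank K W ≤ 4 * finrank K (fixSub X) + 2 * finrank K (LinearMap.ker L) := by
  let E : K → K → Submodule K W := fun a b =>
    LinearMap.ker (Y - a • 1) ⊓ LinearMap.ker (J - b • 1)
  have hE : ∀ a b v, v ∈ E a b ↔ Y v = a • v ∧ J v = b • v := fun a b v => by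
    simp [E, sub_eq_zero]
  have hYY : ∀ v, Y (Y v) = v := fun v => by rw [← Module.End.mul_apply, hY]; rfl
  have hJJ : ∀ v, J (J v) = v := fun v => by rw [← Module.End.mul_apply, hJ]; rfl
  have hJYv : ∀ v, J (Y v) = Y (J v) := fun v => by
    rw [← Module.End.mul_apply, ← Module.End.mul_apply, hJY]
  have hXXX : ∀ v, X (X (X v)) = v := fun v => by
    rw [← Module.End.mul_apply, ← Module.End.mul_apply, hX]; rfl
  have hXYv : ∀ v, X (Y v) = J (X v) := fun v => by
    rw [← Module.End.mul_apply, ← Module.End.mul_apply, hXY]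
  have hXJv : ∀ v, X (J v) = Y (J (X v)) := fun v => by
    rw [← Module.End.mul_apply, hXJ, Module.End.mul_apply, Module.End.mul_apply]
  -- `X` permutes the three nontrivial eigenspaces
  have hshift : ∀ a b : K, b * b = 1 → ∀ v ∈ E a b, X v ∈ E (a * b) a := fun a b hb v hv => by
    obtain ⟨h1, h1'⟩ := (hE a b v).1 hv
    have e1 : J (X v) = a • X v := by rw [← hXYv, h1, map_smul]
    refine (hE _ _ _).2 ⟨?_, e1⟩
    have e2 := hXJv v
    rw [h1', map_smul, e1, map_smul] at e2
    have : Y (X v) = Y (Y (Y (X v))) := (hYY _).symm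
    by_cases ha : a = 0
    · subst ha; rw [zero_smul] at e1
      have : X v = 0 := by rw [← hJJ (X v), e1, map_zero]
      simp [this]
    · have haa : a * a = 1 ∨ X v = 0 := by
        by_cases hx : X v = 0
        · exact Or.inr hx
        left
        have e3 := hJJ (X v)
        rw [e1, map_smul, e1, smul_smul] at e3
        exact smul_left_injective K hx (by simpa using e3)
      rcases haa with haa | hx
      · have e4 := congrArg (fun u => a • u) e2
        simp only [smul_smul, haa, one_smul] at e4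
        rw [← e4]
      · simp [hx]
  have hs1 : ((1 : K) * -1) = -1 := by ring
  have hn1 : ((-1 : K)) * -1 = 1 := by ring
  have htop : (⊤ : Submodule K W) ≤ E 1 1 ⊔ E 1 (-1) ⊔ E (-1) 1 ⊔ E (-1) (-1) := by
    rintro v -
    set c : K := (4 : K)⁻¹
    have h4 : c * 4 = 1 := inv_mul_cancel₀ (by rw [show (4 : K) = 2 * 2 by norm_num]; exact mul_ne_zero h2 h2)
    have hv : v = c • (v + Y v + J v + Y (J v)) + c • (v + Y v - J v - Y (J v)) +
        c • (v - Y v + J v - Y (J v)) + c • (v - Y v - J v + Y (J v)) := by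
      match_scalars <;> first | linear_combination (-(1 : K)) * h4 | linear_combination h4 | ring
    rw [hv]
    refine Submodule.add_mem_sup (Submodule.add_mem_sup (Submodule.add_mem_sup
      (Submodule.smul_mem _ _ ?_) (Submodule.smul_mem _ _ ?_)) (Submodule.smul_mem _ _ ?_))
      (Submodule.smul_mem _ _ ?_) <;>
    · refine (hE _ _ _).2 ⟨?_, ?_⟩ <;>
      simp only [map_add, map_sub, hYY, hJJ, hJYv, one_smul, neg_smul] <;> abel
  set b := finrank K (E 1 (-1)) with hb
  have hXinj : Function.Injective X := Function.LeftInverse.injective (g := fun v => X (X v)) hXXX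
  have hle : ∀ a a' c c' : K, c * c = 1 → a * c = a' → a = c' →
      finrank K (E a c) ≤ finrank K (E a' c') := fun a a' c c' hc e1 e2 => by
    subst e1 e2
    exact LinearMap.finrank_le_finrank_of_injective (f := X.restrict (hshift a c hc))
      fun u w h => Subtype.ext (hXinj (congrArg Subtype.val h))
  -- the orbit is `(1,-1) → (-1,1) → (-1,-1) → (1,-1)`
  have hb3 : finrank K (E (-1) (-1)) ≤ b := hle _ _ _ _ hn1 hn1 rfl
  have hb2 : finrank K (E (-1) 1) ≤ b := (hle _ _ _ _ (one_mul 1) (mul_one _) rfl).trans hb3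
  have hdim : finrank K W ≤ finrank K (E 1 1) + 3 * b := by
    have h1 := Submodule.finrank_mono htop
    rw [finrank_top] at h1
    have e1 := Submodule.finrank_add_le_finrank_add_finrank (E 1 1 ⊔ E 1 (-1) ⊔ E (-1) 1) (E (-1) (-1))
    have e2 := Submodule.finrank_add_le_finrank_add_finrank (E 1 1 ⊔ E 1 (-1)) (E (-1) 1)
    have e3 := Submodule.finrank_add_le_finrank_add_finrank (E 1 1) (E 1 (-1))
    omega
  have hbf : b ≤ finrank K (fixSub X) := by
    refine LinearMap.finrank_le_finrank_of_injective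
      (f := ((1 + X + X * X).comp (E 1 (-1)).subtype).codRestrict (fixSub X) fun u => ?_) fun u w h => ?_
    · rw [mem_fixSub]
      simp only [LinearMap.comp_apply, LinearMap.add_apply, Module.End.one_apply, Module.End.mul_apply,
        map_add, hXXX]
      abel
    · have h' : (1 + X + X * X) ((u : W) - w) = 0 := by
        rw [map_sub, sub_eq_zero]; exact congrArg Subtype.val h
      have hd : (u : W) - w ∈ E 1 (-1) := sub_mem u.2 w.2
      obtain ⟨d1, -⟩ := (hE _ _ _).1 hd
      have d2 := hshift _ _ hn1 _ hd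
      obtain ⟨d2', -⟩ := (hE _ _ _).1 d2
      obtain ⟨d3', -⟩ := (hE _ _ _).1 (hshift _ _ (one_mul 1) _ d2)
      have h'' := congrArg (fun t => t + Y t) h'
      simp only [LinearMap.add_apply, Module.End.one_apply, Module.End.mul_apply, map_add, map_zero, add_zero,
        d1, d2', d3', hs1, mul_one, one_smul, neg_smul] at h''
      refine Subtype.ext (sub_eq_zero.1 ?_)
      have e : (2 : K) • ((u : W) - w) = 0 := by rw [← h'', two_smul]; abel
      exact (smul_eq_zero.1 e).resolve_left h2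
  have hker : finrank K (E 1 1) ≤ b + finrank K (LinearMap.ker L) := by
    refine (finrank_le_map_add_inf_ker L (E 1 1)).trans
      (Nat.add_le_add (Submodule.finrank_mono ?_) (Submodule.finrank_mono inf_le_right))
    rintro _ ⟨u, hu, rfl⟩
    obtain ⟨e1, e2⟩ := (hE _ _ _).1 hu
    refine (hE _ _ _).2 ⟨?_, ?_⟩
    · rw [← Module.End.mul_apply, hYL, Module.End.mul_apply, e1, map_smul]
    · rw [← Module.End.mul_apply, hJL, LinearMap.neg_apply, Module.End.mul_apply, e2, one_smul, neg_one_smul]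
  omega

end Parts

variable {V : Type*} [AddCommGroup V] [Module K V] [FiniteDimensional K V] {G : Type*} [Group G]

/-- The representation on an invariant subspace. -/
def subRep (ρ : G →* Module.End K V) (U : Submodule K V) (hU : ∀ g, ∀ u ∈ U, ρ g u ∈ U) :
    G →* Module.End K U where
  toFun g := (ρ g).restrict (hU g)
  map_one' := LinearMap.ext fun u => Subtype.ext (by simp)
  map_mul' a b := LinearMap.ext fun u => Subtype.ext (by simp)

theorem subRep_apply (ρ : G →* Module.End K V) (U : Submodule K V) (hU : ∀ g, ∀ u ∈ U, ρ g u ∈ U)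
    (g : G) (u : U) : (subRep ρ U hU g u : V) = ρ g u := rfl

theorem finrank_fix_sub_add (σ : Module.End K V) (U U' : Submodule K V) (hd : U ⊓ U' = ⊥)
    (h : ∀ u ∈ U, σ u ∈ U) (h' : ∀ u ∈ U', σ u ∈ U') :
    finrank K (fixSub (σ.restrict h)) + finrank K (fixSub (σ.restrict h')) ≤ finrank K (fixSub σ) := by
  rw [(Submodule.equivMapOfInjective U.subtype U.injective_subtype (fixSub (σ.restrict h))).finrank_eq,
    (Submodule.equivMapOfInjective U'.subtype U'.injective_subtype (fixSub (σ.restrict h'))).finrank_eq,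
    ← Submodule.finrank_sup_add_finrank_inf_eq]
  have hle : ∀ (A : Submodule K V) (hA : ∀ u ∈ A, σ u ∈ A),
      (fixSub (σ.restrict hA)).map A.subtype ≤ A ⊓ fixSub σ := by
    rintro A hA _ ⟨u, hu, rfl⟩
    exact ⟨u.2, mem_fixSub.2 (congrArg Subtype.val (mem_fixSub.1 hu))⟩
  rw [show (fixSub (σ.restrict h)).map U.subtype ⊓ (fixSub (σ.restrict h')).map U'.subtype = ⊥ from
    le_bot_iff.1 ((inf_le_inf ((hle U h).trans inf_le_left) ((hle U' h').trans inf_le_left)).trans hd.le),
    finrank_bot, add_zero]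
  exact Submodule.finrank_mono (sup_le ((hle U h).trans inf_le_right) ((hle U' h').trans inf_le_right))

theorem of_quaternion (h2 : (2 : K) ≠ 0) (h3 : (3 : K) ≠ 0) (ρ : G →* Module.End K V) {x y j z v : G}
    (hx : x * x * x = 1) (hyy : y * y = z) (hjj : j * j = z) (hjy : j * y = z * (y * j)) (hzz : z * z = 1)
    (hzx : z * x = x * z) (hxy : x * y = j * x) (hxj : x * j = y * j * x)
    (hyv : y * v = v * y) (hjv : j * v = v⁻¹ * j)
    (hvv : v * (x * v * (x * x)) = x * v * (x * x) * v)
    {m : ℕ} (hm : Odd m) (hvm : v ^ m = 1) (hv1 : v ≠ 1) (hx1 : x ≠ 1) : HasLargeFix ρ := by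
  have hzy : z * y = y * z := by rw [← hyy, mul_assoc]
  have hzj : z * j = j * z := by rw [← hjj, mul_assoc]
  have hzv : z * v = v * z := by rw [← hyy, mul_assoc, hyv, ← mul_assoc, hyv, mul_assoc]
  have hvp : v⁻¹ = v ^ (m - 1) := by
    obtain ⟨k, hk⟩ := hm
    exact inv_eq_of_mul_eq_one_right (by rw [← pow_succ', show m - 1 + 1 = m by omega, hvm])
  -- the two eigenspaces of `z`, invariant under the subgroup generated by the elements in sight
  set H : Subgroup G := Subgroup.centralizer {z} with hH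
  have hHmem : ∀ g, z * g = g * z → g ∈ H := fun g hg =>
    Subgroup.mem_centralizer_singleton_iff.2 hg.symm
  let σ : H →* Module.End K V := ρ.comp H.subtype
  let Wp : Submodule K V := fixSub (ρ z)
  let Wm : Submodule K V := LinearMap.ker (ρ z + 1)
  have hmem : ∀ u, u ∈ Wm ↔ ρ z u = -u := fun u => by
    simp only [Wm, LinearMap.mem_ker, LinearMap.add_apply, Module.End.one_apply, add_eq_zero_iff_eq_neg]
  have hWp : ∀ (g : H), ∀ u ∈ Wp, σ g u ∈ Wp := fun g u hu => by
    rw [mem_fixSub] at hu ⊢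
    show ρ z (ρ g u) = ρ g u
    rw [← app_mul, ← (Subgroup.mem_centralizer_singleton_iff.1 g.2), app_mul, hu]
  have hWm : ∀ (g : H), ∀ u ∈ Wm, σ g u ∈ Wm := fun g u hu => by
    rw [hmem] at hu ⊢
    show ρ z (ρ g u) = -ρ g u
    rw [← app_mul, ← (Subgroup.mem_centralizer_singleton_iff.1 g.2), app_mul, hu, map_neg]
  have hinf : Wp ⊓ Wm = ⊥ := by
    refine le_bot_iff.1 fun u hu => ?_
    have h1 := mem_fixSub.1 hu.1
    have h2' := (hmem u).1 hu.2
    rw [h1] at h2'
    have : (2 : K) • u = 0 := by rw [two_smul]; exact eq_neg_iff_add_eq_zero.1 h2'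
    exact (Submodule.mem_bot K).2 ((smul_eq_zero.1 this).resolve_left h2)
  have htop : finrank K V ≤ finrank K Wp + finrank K Wm := by
    rw [← finrank_top K V]
    refine (Submodule.finrank_mono (t := Wp ⊔ Wm) ?_).trans (Submodule.finrank_add_le_finrank_add_finrank _ _)
    rintro u -
    have hu : u = (2 : K)⁻¹ • (u + ρ z u) + (2 : K)⁻¹ • (u - ρ z u) := by
      rw [← smul_add, show u + ρ z u + (u - ρ z u) = (2 : K) • u by rw [two_smul]; abel, inv_smul_smul₀ h2]
    have hzzu : ρ z (ρ z u) = u := by rw [← app_mul, hzz, app_one]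
    rw [hu]
    refine Submodule.add_mem_sup (Submodule.smul_mem _ _ ?_) (Submodule.smul_mem _ _ ?_)
    · rw [mem_fixSub, map_add, hzzu, add_comm]
    · rw [hmem, map_sub, hzzu, neg_sub]
  let X : H := ⟨x, hHmem x hzx⟩
  let Y : H := ⟨y, hHmem y hzy⟩
  let J : H := ⟨j, hHmem j hzj⟩
  let T : H := ⟨v, hHmem v hzv⟩
  let Z : H := ⟨z, hHmem z rfl⟩
  have rX : X * X * X = 1 := Subtype.ext hx
  have rYY : Y * Y = Z := Subtype.ext hyy
  have rJJ : J * J = Z := Subtype.ext hjj
  have rJY : J * Y = Z * (Y * J) := Subtype.ext hjy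
  have rXY : X * Y = J * X := Subtype.ext hxy
  have rXJ : X * J = Y * J * X := Subtype.ext hxj
  have rYT : Y * T = T * Y := Subtype.ext hyv
  have rJT : J * T = T⁻¹ * J := Subtype.ext hjv
  have rTT : T * (X * T * (X * X)) = X * T * (X * X) * T := Subtype.ext hvv
  have rYT' : Y * T⁻¹ = T⁻¹ * Y := (Commute.inv_right (a := Y) rYT).eq
  have rJT' : J * T⁻¹ = T * J := by
    calc J * T⁻¹ = T * (T⁻¹ * J) * T⁻¹ := by rw [mul_inv_cancel_left]
      _ = T * J := by rw [← rJT, mul_assoc, mul_inv_cancel_right]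
  have rTT1 : Commute T (X * T * (X * X)) := rTT
  have key : ∀ (U : Submodule K V) (hU : ∀ g : H, ∀ u ∈ U, σ g u ∈ U) (τ : Module.End K U),
      τ = subRep σ U hU T - subRep σ U hU T⁻¹ →
      finrank K (LinearMap.ker τ) ≤ finrank K (fixSub ((ρ v).restrict (hU T))) := fun U hU τ hτ => by
    refine Submodule.finrank_mono fun u hu => ?_
    have hu' : ρ v (u : V) = ρ v⁻¹ (u : V) := by
      rw [hτ] at hu
      exact congrArg Subtype.val (sub_eq_zero.1 hu)
    refine mem_fixSub.2 (Subtype.ext ?_)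
    show ρ v u = u
    refine fix_pow_of_coprime (ρ v) (n := m) (k := 2) (by rw [← map_pow, hvm, map_one])
      (Nat.coprime_two_left.2 hm) ?_
    rw [pow_two, Module.End.mul_apply, hu', ← app_mul, mul_inv_cancel, app_one]
  have hp : finrank K Wp ≤ 4 * finrank K (fixSub ((ρ x).restrict (hWp X)))
      + 2 * finrank K (fixSub ((ρ v).restrict (hWp T))) := by
    let ψ := subRep σ Wp hWp
    have hψZ : ψ Z = 1 := LinearMap.ext fun u => Subtype.ext (mem_fixSub.1 u.2)
    refine (plus_part (L := ψ T - ψ T⁻¹) h2 (X := ψ X) (Y := ψ Y) (J := ψ J)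
      (by rw [← map_mul, ← map_mul, rX, map_one]) (by rw [← map_mul, rYY, hψZ])
      (by rw [← map_mul, rJJ, hψZ]) (by rw [← map_mul, rJY, map_mul, map_mul, hψZ, one_mul])
      (by rw [← map_mul, rXY, map_mul]) (by rw [← map_mul, rXJ, map_mul, map_mul])
      (by rw [mul_sub, sub_mul, ← map_mul ψ Y T, rYT, ← map_mul ψ Y T⁻¹, rYT', map_mul, map_mul])
      (by rw [mul_sub, sub_mul, ← map_mul ψ J T, rJT, ← map_mul ψ J T⁻¹, rJT', map_mul, map_mul, neg_sub])).trans ?_
    exact Nat.add_le_add_left (Nat.mul_le_mul_left _ (key Wp hWp _ rfl)) _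
  have hq : finrank K Wm ≤ 4 * finrank K (fixSub ((ρ x).restrict (hWm X)))
      + 2 * finrank K (fixSub ((ρ v).restrict (hWm T))) := by
    let ψ := subRep σ Wm hWm
    have hψZ : ψ Z = -1 := LinearMap.ext fun u => Subtype.ext ((hmem _).1 u.2)
    have hψXX : ψ X * ψ X = ψ (X * X) := (map_mul ψ X X).symm
    refine (minus_part (L := ψ T - ψ T⁻¹) h2 h3 (X := ψ X) (Y := ψ Y) (J := ψ J)
      (by rw [← map_mul, ← map_mul, rX, map_one]) (by rw [← map_mul, rYY, hψZ])
      (by rw [← map_mul, rJJ, hψZ]) (by rw [← map_mul, rJY, map_mul, map_mul, hψZ]; exact neg_one_mul (ψ Y * ψ J))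
      (by rw [← map_mul, rXY, map_mul]) (by rw [← map_mul, rXJ, map_mul, map_mul])
      (by rw [mul_sub, sub_mul, ← map_mul ψ Y T, rYT, ← map_mul ψ Y T⁻¹, rYT', map_mul, map_mul])
      (by rw [mul_sub, sub_mul, ← map_mul ψ J T, rJT, ← map_mul ψ J T⁻¹, rJT', map_mul, map_mul, neg_sub]) ?_).trans ?_
    · have hinvT : X * T⁻¹ * (X * X) = (X * T * (X * X))⁻¹ := by
        have hXX : (X * X)⁻¹ = X := inv_eq_of_mul_eq_one_right rX
        have hXi : X⁻¹ = X * X := inv_eq_of_mul_eq_one_right (by rw [← mul_assoc, rX])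
        rw [mul_inv_rev, hXX, mul_inv_rev, hXi, mul_assoc]
      have e : ∀ a b : H, Commute a b → Commute (ψ a) (ψ b) := fun a b h => h.map ψ
      have h1 : ψ X * (ψ T - ψ T⁻¹) * (ψ X * ψ X)
          = ψ (X * T * (X * X)) - ψ (X * T⁻¹ * (X * X)) := by
        rw [mul_sub, sub_mul, hψXX, ← map_mul, ← map_mul, ← map_mul, ← map_mul]
      rw [h1, hinvT]
      exact (((e _ _ rTT1).sub_right (e _ _ rTT1.inv_right)).sub_left
        ((e _ _ rTT1.inv_left).sub_right (e _ _ rTT1.inv_left.inv_right))).eq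
    exact Nat.add_le_add_left (Nat.mul_le_mul_left _ (key Wm hWm _ rfl)) _
  have hfx := finrank_fix_sub_add (ρ x) Wp Wm hinf (hWp X) (hWm X)
  have hfv := finrank_fix_sub_add (ρ v) Wp Wm hinf (hWp T) (hWm T)
  by_contra hno
  simp only [HasLargeFix, not_exists, not_and, not_le] at hno
  have := hno x hx1
  have := hno v hv1
  omega

end Cfsg.Agent.FixSixth
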