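import Cfsg.Agent.Lib.FixSixth.Quaternion
import Cfsg.Agent.Lib.Isolated.RankOne

/-!
# Consequences of having no element with a large fixed space (S5720; owner helper90)

* `mem_zpowers_of_not` : no elementary abelian group of order `r ^ 2`, `r ≤ 5`
* `isCyclic_sylow` : cyclic Sylow subgroups at `3` and `5`
* `two_ne_zero_of_not`, `three_ne_zero_of_not` : the characteristic is neither `2` nor `3`
-/

set_option autoImplicit false
set_option linter.unusedSectionVars false
set_option linter.style.haveILetI false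

open Module Subgroup

namespace Cfsg.Agent.FixSixth

theorem charP_of_prime_cast {K : Type*} [Field K] {r : ℕ} (hr : r.Prime) (h : (r : K) = 0) : CharP K r := by
  obtain ⟨q, hq⟩ := CharP.exists K
  rcases (Nat.dvd_prime hr).1 ((CharP.cast_eq_zero_iff K q r).1 h) with rfl | rfl
  · exact absurd rfl (CharP.char_ne_one K 1)
  · exact hq

universe u

variable {K : Type*} [Field K] {V : Type*} [AddCommGroup V] [Module K V] [FiniteDimensional K V]
  {G : Type u} [Group G] {ρ : G →* Module.End K V} (hno : ¬ HasLargeFix ρ)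
include hno

theorem natCast_ne_zero_of_not {r : ℕ} (hr : r.Prime) (hr6 : r ≤ 6) {g : G} (hg : orderOf g = r) :
    (r : K) ≠ 0 := fun h => by
  haveI := charP_of_prime_cast (K := K) hr h
  exact hno (of_char_eq hr hr6 ρ hg)

theorem two_ne_zero_of_not {g : G} (hg : g * g = 1) (hg1 : g ≠ 1) : (2 : K) ≠ 0 := fun h =>
  natCast_ne_zero_of_not hno Nat.prime_two (by norm_num) (g := g)
    (haveI := Fact.mk Nat.prime_two; orderOf_eq_prime (by rw [pow_two, hg]) hg1) (by exact_mod_cast h)

theorem three_ne_zero_of_not {g : G} (hg : g * g * g = 1) (hg1 : g ≠ 1) : (3 : K) ≠ 0 := fun h =>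
  natCast_ne_zero_of_not hno Nat.prime_three (by norm_num) (g := g)
    (haveI := Fact.mk Nat.prime_three; orderOf_eq_prime (by rw [pow_succ, pow_two, hg]) hg1)
    (by exact_mod_cast h)

theorem mem_zpowers_of_not {r : ℕ} (hr : r.Prime) (hr5 : r ≤ 5) {a b : G} (hab : Commute a b)
    (har : a ^ r = 1) (hbr : b ^ r = 1) (ha : a ≠ 1) : b ∈ zpowers a := by
  by_contra hb
  haveI := Fact.mk hr
  exact hno (of_elementary hr hr5 (natCast_ne_zero_of_not hno hr (by omega) (orderOf_eq_prime har ha))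
    ρ hab.symm hbr har ha hb)

theorem isCyclic_sylow [Finite G] {r : ℕ} [hr : Fact r.Prime] (hr2 : r ≠ 2) (hr5 : r ≤ 5) (P : Sylow r G) :
    IsCyclic (P : Subgroup G) := by
  have hzp : ∀ a b : G, a ≠ 1 → a ^ r = 1 → b ^ r = 1 → Commute a b → b ∈ zpowers a :=
    fun a b ha har hbr hab => mem_zpowers_of_not hno hr.out hr5 hab har hbr ha
  rcases subsingleton_or_nontrivial (P : Subgroup G) with h | h
  · exact isCyclic_of_subsingleton
  haveI := h
  haveI : Nontrivial (center (P : Subgroup G)) := P.2.center_nontrivial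
  obtain ⟨c, hc⟩ : ∃ c : center (P : Subgroup G), orderOf c = r := by
    refine exists_prime_orderOf_dvd_card' r ?_
    obtain ⟨n, hn, hcard⟩ := (P.2.to_subgroup (center (P : Subgroup G))).nontrivial_iff_card.1 inferInstance
    exact hcard ▸ dvd_pow_self r (Nat.pos_iff_ne_zero.1 hn)
  rw [← Subgroup.orderOf_coe, ← Subgroup.orderOf_coe] at hc
  have hcr : (((c : (P : Subgroup G)) : G)) ^ r = 1 :=
    orderOf_dvd_iff_pow_eq_one.1 hc.dvd
  have hc1 : ((c : (P : Subgroup G)) : G) ≠ 1 := fun e => hr.out.ne_one (by rw [← hc, e, orderOf_one])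
  refine Isolated.isCyclic_of_unique hr2 _ (P : Subgroup G) P.2 le_rfl fun a b ha har hbr => ?_
  have hcom : ∀ d : (P : Subgroup G), Commute ((c : (P : Subgroup G)) : G) d := fun d =>
    (congrArg Subtype.val (mem_center_iff.1 c.2 d)).symm
  have ha' : (a : G) ^ r = 1 := by rw [← SubgroupClass.coe_pow, har]; rfl
  have hb' : (b : G) ^ r = 1 := by rw [← SubgroupClass.coe_pow, hbr]; rfl
  have ha1 : (a : G) ≠ 1 := fun e => ha (Subtype.ext e)
  have h1 : (b : G) ∈ zpowers ((c : (P : Subgroup G)) : G) := hzp _ _ hc1 hcr hb' (hcom b)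
  have h2 : ((c : (P : Subgroup G)) : G) ∈ zpowers (a : G) := hzp _ _ ha1 ha' hcr (hcom a).symm
  obtain ⟨k, hk⟩ := mem_zpowers_iff.1 (zpowers_le.2 h2 h1)
  exact mem_zpowers_iff.2 ⟨k, Subtype.ext (by rw [SubgroupClass.coe_zpow]; exact hk)⟩

/-- The Sylow subgroups of an image are cyclic: no two independent commuting elements of order `r` there. -/
theorem mem_zpowers_image [Finite G] {Y : Type*} [Group Y] [Finite Y] (f : G →* Y)
    (hf : Function.Surjective f) {r : ℕ} (hr : r.Prime) (hr2 : r ≠ 2) (hr5 : r ≤ 5) {a b : Y}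
    (hab : Commute a b) (har : a ^ r = 1) (hbr : b ^ r = 1) (ha : a ≠ 1) : b ∈ zpowers a := by
  classical
  haveI := Fact.mk hr
  have hz : ∀ {y : Y}, y ^ r = 1 → IsPGroup r (zpowers y) := fun {y} hy z => ⟨1, by
    obtain ⟨_, k, rfl⟩ := z
    refine Subtype.ext ?_
    show (y ^ k) ^ r ^ 1 = 1
    rw [pow_one, ← zpow_natCast, ← zpow_mul, mul_comm, zpow_mul, zpow_natCast, hy, one_zpow]⟩
  have hle : zpowers b ≤ normalizer (zpowers a : Set Y) := by
    rw [zpowers_le]
    refine Subgroup.centralizer_le_normalizer _ (mem_centralizer_iff.2 fun y hy => ?_)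
    obtain ⟨k, rfl⟩ := mem_zpowers_iff.1 hy
    exact (hab.zpow_left k).eq
  obtain ⟨Q, hQ⟩ := (IsPGroup.to_sup_of_normal_left' (hz har) (hz hbr) hle).exists_le_sylow
  obtain ⟨P⟩ : Nonempty (Sylow r G) := inferInstance
  haveI := isCyclic_sylow hno hr2 hr5 P
  haveI hcP : IsCyclic (P.mapSurjective hf : Subgroup Y) := by
    rw [P.coe_mapSurjective hf]
    exact isCyclic_of_surjective _ (f.subgroupMap_surjective (P : Subgroup G))
  haveI : IsCyclic (Q : Subgroup Y) :=
    isCyclic_of_surjective _ ((P.mapSurjective hf).equiv Q).surjective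
  haveI : Fintype (Q : Subgroup Y) := Fintype.ofFinite _
  set a' : (Q : Subgroup Y) := ⟨a, hQ (mem_sup_left (mem_zpowers a))⟩
  set b' : (Q : Subgroup Y) := ⟨b, hQ (mem_sup_right (mem_zpowers b))⟩
  have hle' : (Finset.univ.filter fun y : (Q : Subgroup Y) => y ^ r = 1).card ≤ r :=
    IsCyclic.card_pow_eq_one_le hr.pos
  have hsub : (zpowers a' : Set (Q : Subgroup Y)).toFinset ⊆
      Finset.univ.filter fun y : (Q : Subgroup Y) => y ^ r = 1 := by
    intro y hy
    rw [Set.mem_toFinset] at hy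
    obtain ⟨k, rfl⟩ := hy
    refine Finset.mem_filter.2 ⟨Finset.mem_univ _, ?_⟩
    have h0 : a' ^ r = 1 := Subtype.ext har
    show (a' ^ k) ^ r = 1
    rw [← zpow_natCast, ← zpow_mul, mul_comm, zpow_mul, zpow_natCast, h0, one_zpow]
  have hcard : (zpowers a' : Set (Q : Subgroup Y)).toFinset.card = r := by
    rw [Set.toFinset_card]
    show Fintype.card (zpowers a') = r
    rw [Fintype.card_zpowers, orderOf_eq_prime (Subtype.ext har) fun e => ha (congrArg Subtype.val e)]
  have heq := Finset.eq_of_subset_of_card_le hsub (hle'.trans hcard.ge)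
  have hb' : b' ∈ (zpowers a' : Set (Q : Subgroup Y)).toFinset := by
    rw [heq]; exact Finset.mem_filter.2 ⟨Finset.mem_univ _, Subtype.ext hbr⟩
  rw [Set.mem_toFinset] at hb'
  obtain ⟨k, hk⟩ := hb'
  exact ⟨k, congrArg Subtype.val hk⟩

end Cfsg.Agent.FixSixth
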