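import Cfsg.Agent.Lib.FixSixth.Binary
import Cfsg.Agent.Lib.FixSixth.Small
import Cfsg.Agent.Lib.FixSixth.Quaternion

/-!
# A binary tetrahedral group acting on a normal subgroup of odd order (S5720; owner helper90)

`commute_of_not` : without an element with a large fixed space, an element of order four of the tetrahedral
group centralises every normal solvable subgroup of odd order.
-/

set_option autoImplicit false
set_option linter.unusedSectionVars false
set_option linter.style.haveILetI false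

open Module Subgroup

namespace Cfsg.Agent.FixSixth

section Odd

variable {G : Type*} [Group G] {N : Subgroup G} (hN : Odd (Nat.card N))
include hN

theorem eq_one_of_sq {g : G} (hg : g ∈ N) (h : g * g = 1) : g = 1 := by
  have h1 : orderOf (⟨g, hg⟩ : N) ∣ Nat.gcd (Nat.card N) 2 :=
    Nat.dvd_gcd (orderOf_dvd_natCard _) (orderOf_dvd_of_pow_eq_one (by rw [pow_two]; exact Subtype.ext h))
  rw [hN.coprime_two_right, Nat.dvd_one, orderOf_eq_one_iff] at h1
  exact congrArg Subtype.val h1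

theorem pow_card_eq_one_of_mem {g : G} (hg : g ∈ N) : g ^ Nat.card N = 1 :=
  congrArg Subtype.val (pow_card_eq_one' (G := N) (x := ⟨g, hg⟩))

end Odd

/-- Invariance under the tetrahedral group. -/
def Tetra.Inv {G : Type*} [Group G] (T : Tetra G) (M : Subgroup G) : Prop :=
  ∀ m ∈ M, MulAut.conj T.i m ∈ M ∧ MulAut.conj T.j m ∈ M ∧ MulAut.conj T.x m ∈ M

theorem Tetra.inv_commutator {G : Type*} [Group G] (T : Tetra G) {M : Subgroup G} (h : T.Inv M) :
    T.Inv ⁅M, M⁆ := by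
  have key : ∀ g : G, (∀ m ∈ M, MulAut.conj g m ∈ M) → ∀ d ∈ ⁅M, M⁆, MulAut.conj g d ∈ ⁅M, M⁆ := by
    intro g hg d hd
    have hm : M.map (MulAut.conj g).toMonoidHom ≤ M := by rintro _ ⟨m, hm, rfl⟩; exact hg m hm
    have h1 := mem_map_of_mem (MulAut.conj g).toMonoidHom hd
    rw [Subgroup.map_commutator] at h1
    exact Subgroup.commutator_mono hm hm h1
  exact fun d hd => ⟨key _ (fun m hm => (h m hm).1) d hd, key _ (fun m hm => (h m hm).2.1) d hd,
    key _ (fun m hm => (h m hm).2.2) d hd⟩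

variable {K : Type*} [Field K] {V : Type*} [AddCommGroup V] [Module K V] [FiniteDimensional K V]
  {G : Type*} [Group G] [Finite G] {ρ : G →* Module.End K V}

theorem commute_of_not (hno : ¬ HasLargeFix ρ) (T : Tetra G) (hx1 : T.x ≠ 1) (hz1 : T.z ≠ 1)
    (N : Subgroup G) [N.Normal] [Group.IsSolvable N] (hN : Odd (Nat.card N)) :
    ∀ g ∈ N, T.i * g = g * T.i := by
  have h2 : (2 : K) ≠ 0 := two_ne_zero_of_not hno T.hzz hz1
  have h3 : (3 : K) ≠ 0 := three_ne_zero_of_not hno T.hx hx1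
  have hzi : T.z * T.i = T.i * T.z := by rw [← T.hii, mul_assoc]
  have hzj : T.z * T.j = T.j * T.z := by rw [← T.hjj, mul_assoc]
  have hzinv : T.z⁻¹ = T.z := inv_eq_of_mul_eq_one_right T.hzz
  -- the central involution centralises `N`
  have hzN : ∀ g ∈ N, T.z * g = g * T.z := fun g hg => by
    by_contra hne
    have hzg : T.z * g * T.z⁻¹ ∈ N := ‹N.Normal›.conj_mem g hg T.z
    rw [hzinv] at hzg
    refine hno (of_inverted h2 ρ T.hzz hz1 (a := g⁻¹ * (T.z * g * T.z)) ?_ ?_ hN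
      (pow_card_eq_one_of_mem hN (mul_mem (inv_mem hg) hzg)))
    · simp only [_root_.mul_inv_rev, inv_inv, hzinv, ← mul_assoc]
      rw [mul_assoc _ T.z T.z, T.hzz, mul_one]
    · intro e
      refine hne ?_
      rw [inv_mul_eq_one] at e
      calc T.z * g = T.z * g * T.z * T.z := by rw [mul_assoc _ T.z T.z, T.hzz, mul_one]
        _ = g * T.z := by rw [← e]
  let A : MulAut G := MulAut.conj T.i
  let B : MulAut G := MulAut.conj T.j
  let C : MulAut G := MulAut.conj T.x
  have hcc : ∀ (a b : G) (g : G), MulAut.conj a (MulAut.conj b g) = MulAut.conj (a * b) g := fun a b g => by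
    rw [map_mul, MulAut.mul_apply]
  have hzc : ∀ g ∈ N, MulAut.conj T.z g = g := fun g hg => by
    rw [MulAut.conj_apply, hzN g hg, mul_inv_cancel_right]
  have hAA : ∀ g ∈ N, A (A g) = g := fun g hg => by rw [hcc, T.hii, hzc g hg]
  have hBB : ∀ g ∈ N, B (B g) = g := fun g hg => by rw [hcc, T.hjj, hzc g hg]
  have hmemA : ∀ g ∈ N, A g ∈ N := fun g hg => ‹N.Normal›.conj_mem g hg _
  have hmemB : ∀ g ∈ N, B g ∈ N := fun g hg => ‹N.Normal›.conj_mem g hg _
  have hAB : ∀ g ∈ N, B (A g) = A (B g) := fun g hg => by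
    rw [hcc, hcc, T.hji, ← hcc, hzc (MulAut.conj (T.i * T.j) g) (‹N.Normal›.conj_mem g hg _)]
  have hCA : ∀ g, C (A g) = B (C g) := fun g => by rw [hcc, hcc, T.hxi]
  have hCB : ∀ g, C (B g) = A (B (C g)) := fun g => by rw [hcc, hcc, hcc, T.hxj, mul_assoc]
  have hC3 : ∀ g, C (C (C g)) = g := fun g => by
    rw [hcc, hcc, T.hx, map_one, MulAut.one_apply]
  have hfix : ∀ g, A g = g ↔ T.i * g = g * T.i := fun g => by
    show T.i * g * T.i⁻¹ = g ↔ _
    rw [mul_inv_eq_iff_eq_mul]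
  by_contra hbad
  push Not at hbad
  obtain ⟨g₀, hg₀, hne₀⟩ := hbad
  have hNinv : T.Inv N := fun m hm =>
    ⟨‹N.Normal›.conj_mem m hm _, ‹N.Normal›.conj_mem m hm _, ‹N.Normal›.conj_mem m hm _⟩
  obtain ⟨P, ⟨hPN, hPinv, g₁, hg₁, hne₁⟩, hmin⟩ := wellFounded_lt.has_min
    {M : Subgroup G | M ≤ N ∧ T.Inv M ∧ ∃ m ∈ M, A m ≠ m}
    ⟨N, le_rfl, hNinv, g₀, hg₀, fun e => hne₀ ((hfix g₀).1 e)⟩
  -- the derived subgroup is centralised
  set D : Subgroup G := ⁅P, P⁆ with hD
  have hDP : D < P := by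
    haveI : Group.IsSolvable P :=
      Group.isSolvable_of_isSolvable_injective (Subgroup.inclusion_injective hPN)
    haveI : Nontrivial P := by
      refine (Subgroup.nontrivial_iff_ne_bot P).2 fun e => hne₁ ?_
      rw [e, Subgroup.mem_bot] at hg₁
      rw [hg₁, map_one]
    have h := Group.IsSolvable.commutator_lt_top_of_nontrivial P
    refine lt_of_le_of_ne (Subgroup.commutator_le_self P) fun e => h.ne ?_
    refine Subgroup.map_injective P.subtype_injective ?_
    rw [Subgroup.map_subtype_commutator, ← MonoidHom.range_eq_map, Subgroup.range_subtype]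
    exact e
  have hDinv : T.Inv D := T.inv_commutator hPinv
  have hDfix : ∀ d ∈ D, A d = d := by
    by_contra hcon
    push Not at hcon
    exact hmin D ⟨hDP.le.trans hPN, hDinv, hcon⟩ hDP
  have hDnorm : ∀ g ∈ P, ∀ d ∈ D, g * d * g⁻¹ ∈ D := fun g hg d hd => by
    have h1 : g * d * g⁻¹ * d⁻¹ ∈ D := Subgroup.commutator_mem_commutator hg (hDP.le hd)
    simpa using mul_mem h1 hd
  have hDfixB : ∀ d ∈ D, B d = d := fun d hd => by
    have hd' : C (C d) ∈ D := (hDinv _ (hDinv d hd).2.2).2.2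
    have h := hCA (C (C d))
    rw [hDfix _ hd', hC3] at h
    exact h.symm
  have hPA : ∀ g ∈ P, A g ∈ P := fun g hg => (hPinv g hg).1
  have hPB : ∀ g ∈ P, B g ∈ P := fun g hg => (hPinv g hg).2.1
  have hPC : ∀ g ∈ P, C g ∈ P := fun g hg => (hPinv g hg).2.2
  -- the derived subgroup is central
  have hcentral : ∀ g ∈ P, ∀ d ∈ D, g * d = d * g := by
    set Q : Subgroup G := P ⊓ centralizer (D : Set G) with hQ
    have hQinv : T.Inv Q := by
      have key : ∀ φ : MulAut G, (∀ g ∈ P, φ g ∈ P) → (∀ d ∈ D, φ d ∈ D) → ∀ m ∈ Q, φ m ∈ Q := by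
        rintro φ hφ hφD m ⟨hm, hmc⟩
        refine ⟨hφ m hm, fun d hd => ?_⟩
        have hsurj : ∃ d' ∈ D, φ d' = d := by
          have hmap : D.map φ.toMonoidHom = D := by
            refine Subgroup.eq_of_le_of_card_ge (by rintro _ ⟨e, he, rfl⟩; exact hφD e he) ?_
            rw [Subgroup.card_map_of_injective φ.injective]
          exact hmap.ge hd
        obtain ⟨d', hd', rfl⟩ := hsurj
        rw [← map_mul, ← map_mul, hmc d' hd']
      exact fun m hm => ⟨key A hPA (fun d hd => (hDinv d hd).1) m hm,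
        key B hPB (fun d hd => (hDinv d hd).2.1) m hm, key C hPC (fun d hd => (hDinv d hd).2.2) m hm⟩
    have hQP : Q = P := by
      by_contra hQne
      have hQfix : ∀ m ∈ Q, A m = m := by
        by_contra hcon
        push Not at hcon
        exact hmin Q ⟨inf_le_left.trans hPN, hQinv, hcon⟩ (lt_of_le_of_ne inf_le_left hQne)
      refine hne₁ ?_
      have hmemQ : g₁⁻¹ * A g₁ ∈ Q := by
        refine ⟨P.mul_mem (P.inv_mem hg₁) (hPA _ hg₁), fun d hd => ?_⟩
        have e : A g₁ * d * (A g₁)⁻¹ = g₁ * d * g₁⁻¹ := by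
          rw [← hDfix _ (hDnorm g₁ hg₁ d hd), map_mul, map_mul, map_inv, hDfix d hd]
        calc d * (g₁⁻¹ * A g₁) = g₁⁻¹ * (g₁ * d * g₁⁻¹) * A g₁ := by group
          _ = g₁⁻¹ * (A g₁ * d * (A g₁)⁻¹) * A g₁ := by rw [e]
          _ = g₁⁻¹ * A g₁ * d := by group
      have e := hQfix _ hmemQ
      rw [map_mul, map_inv, hAA g₁ (hPN hg₁)] at e
      have hsq : (g₁⁻¹ * A g₁) * (g₁⁻¹ * A g₁) = 1 := by
        conv_lhs => arg 1; rw [← e]
        group
      have h1 := eq_one_of_sq hN (mul_mem (inv_mem (hPN hg₁)) (hmemA _ (hPN hg₁))) hsq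
      exact (inv_mul_eq_one.1 h1).symm
    intro g hg d hd
    exact ((hQP.ge hg).2 d hd).symm
  -- a vector fixed by `i` and inverted by `j`
  obtain ⟨g, hg, hv1⟩ : ∃ g ∈ P, g⁻¹ * B g * A (g⁻¹ * B g) ≠ 1 := by
    by_contra hcon
    push Not at hcon
    have s0 : ∀ g ∈ P, A (g⁻¹ * B g) = (g⁻¹ * B g)⁻¹ := fun g hg =>
      (inv_eq_of_mul_eq_one_right (hcon g hg)).symm
    have s1 : ∀ h ∈ P, B (h⁻¹ * A (B h)) = (h⁻¹ * A (B h))⁻¹ := fun h hh => by
      have := congrArg C (s0 (C (C h)) (hPC _ (hPC _ hh)))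
      rwa [hCA, map_inv C, map_mul C, map_inv C, hCB, hC3] at this
    have s2 : ∀ h ∈ P, A (B (h⁻¹ * A h)) = (h⁻¹ * A h)⁻¹ := fun h hh => by
      have := congrArg C (s1 (C (C h)) (hPC _ (hPC _ hh)))
      rw [hCB, map_inv C, map_mul C, map_inv C, hCA, hCB, hC3] at this
      rwa [hAB _ (hmemB _ (hPN hh)), hBB h (hPN hh)] at this
    have s3 : ∀ h ∈ P, B (h⁻¹ * A h) = h⁻¹ * A h := fun h hh => by
      have hmem : h⁻¹ * A h ∈ N := mul_mem (inv_mem (hPN hh)) (hmemA _ (hPN hh))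
      have := congrArg A (s2 h hh)
      have e : A (h⁻¹ * A h) = (A h)⁻¹ * h := by rw [map_mul, map_inv, hAA h (hPN hh)]
      rwa [hAA _ (hmemB _ hmem), map_inv A (h⁻¹ * A h), e, _root_.mul_inv_rev, inv_inv] at this
    have hB1 : ∀ g ∈ P, B g = g := fun g hg => by
      set b := g⁻¹ * B g with hb
      have hbP : b ∈ P := mul_mem (inv_mem hg) (hPB g hg)
      have hBb : B b = b⁻¹ := by
        rw [hb, map_mul, map_inv, hBB g (hPN hg), _root_.mul_inv_rev, inv_inv]
      have e := s3 b hbP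
      rw [s0 g hg, map_mul, map_inv, hBb, inv_inv] at e
      have h4 : b * b * (b * b) = 1 := by
        calc b * b * (b * b) = b⁻¹ * b⁻¹ * (b * b) := by rw [e]
          _ = 1 := by group
      have h5 := eq_one_of_sq hN (hPN hbP) (eq_one_of_sq hN (mul_mem (hPN hbP) (hPN hbP)) h4)
      exact (inv_mul_eq_one.1 h5).symm
    refine hne₁ (C.injective ?_)
    rw [hCA]
    exact hB1 _ (hPC _ hg₁)
  set b := g⁻¹ * B g with hb
  have hbP : b ∈ P := mul_mem (inv_mem hg) (hPB g hg)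
  set v := b * A b with hv
  have hvP : v ∈ P := mul_mem hbP (hPA b hbP)
  have hBb : B b = b⁻¹ := by rw [hb, map_mul, map_inv, hBB g (hPN hg), _root_.mul_inv_rev, inv_inv]
  have hcomm : A b * b = b * A b := by
    set t := A b * b * (A b)⁻¹ * b⁻¹ with ht
    have htD : t ∈ D := Subgroup.commutator_mem_commutator (hPA b hbP) hbP
    have h1 := hDfix t htD
    rw [ht, map_mul, map_mul, map_mul, map_inv, map_inv, hAA b (hPN hbP)] at h1
    have hsq : t * t = 1 := by
      conv_lhs => arg 1; rw [ht, ← h1]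
      rw [ht]; group
    have h2 : t = 1 := eq_one_of_sq hN (hPN (hDP.le htD)) hsq
    rw [ht, mul_inv_eq_one, mul_inv_eq_iff_eq_mul] at h2
    exact h2
  have hAv : A v = v := by rw [hv, map_mul, hAA b (hPN hbP), hcomm]
  have hBv : B v = v⁻¹ := by
    rw [hv, map_mul, hAB b (hPN hbP), hBb, map_inv, ← _root_.mul_inv_rev, hcomm]
  set w := C v with hw
  have hwP : w ∈ P := hPC v hvP
  have hBw : B w = w := by rw [hw, ← hCA, hAv]
  have hAw : A w = w⁻¹ := by
    rw [← hBw, ← hCB, hBv, map_inv, hBw]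
  have hvw : v * w = w * v := by
    set c := v * w * v⁻¹ * w⁻¹ with hc
    have hcD : c ∈ D := Subgroup.commutator_mem_commutator hvP hwP
    have h1 := hDfix c hcD
    rw [hc, map_mul, map_mul, map_mul, map_inv, map_inv, hAv, hAw, inv_inv] at h1
    have h2 := hcentral w hwP c hcD
    have hsq : c * c = 1 := by
      have e : c⁻¹ = c := by
        calc c⁻¹ = w * (v * w⁻¹ * v⁻¹ * w) * w⁻¹ := by rw [hc]; group
          _ = w * c * w⁻¹ := by rw [h1]
          _ = c := by rw [h2, mul_inv_cancel_right]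
      conv_lhs => arg 1; rw [← e]
      exact inv_mul_cancel c
    have h3 : c = 1 := eq_one_of_sq hN (hPN (hDP.le hcD)) hsq
    rw [hc, mul_inv_eq_one, mul_inv_eq_iff_eq_mul] at h3
    exact h3
  have hxx : T.x⁻¹ = T.x * T.x := inv_eq_of_mul_eq_one_right (by rw [← mul_assoc, T.hx])
  refine hno (of_quaternion h2 h3 ρ (v := v) T.hx T.hii T.hjj T.hji T.hzz T.hzx T.hxi T.hxj
    ((hfix v).1 hAv) (mul_inv_eq_iff_eq_mul.1 hBv) ?_ hN (pow_card_eq_one_of_mem hN (hPN hvP)) hv1 hx1)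
  rw [← hxx]
  exact hvw

end Cfsg.Agent.FixSixth
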