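import Cfsg.Agent.Lib.FixSixth.Embed

/-!
# The fixed spaces of `SL₂(p)` in characteristic `p ≥ 7` (S5720; owner helper90)

`finrank_le_fix` : `dim V ≤ 4 dim (fix x) + 2 dim (fix u)`, `x` of order three and `u` of order `p`.

The induction takes a symmetric power from the bottom of the module. Only `d = 1` and `d = 4` fix too
little under `x`; then either the fixed vectors of `u` lift from the quotient, or the next composition
factor makes up for the deficit, except for `p = 11`, where the two make a block of dimension `10`.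
-/

set_option autoImplicit false
set_option linter.unusedSectionVars false

open Module Matrix
open scoped MatrixGroups

namespace Cfsg.Agent.FixSixth

open FixedHalf (fixSub mem_fixSub)

variable {p : ℕ} [Fact p.Prime] {K : Type*} [Field K] [CharP K p]
  {V : Type*} [AddCommGroup V] [Module K V]

variable {ρ : SL(2, ZMod p) →* Module.End K V}

theorem IsInv.comap_le {S : Submodule K V} (hS : IsInv ρ S) (g : SL(2, ZMod p)) : S ≤ S.comap (ρ g) :=
  fun v hv => hS g v hv

/-- The action on the quotient by an invariant subspace. -/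
noncomputable def quotRep {S : Submodule K V} (hS : IsInv ρ S) :
    SL(2, ZMod p) →* Module.End K (V ⧸ S) where
  toFun g := S.mapQ S (ρ g) (hS.comap_le g)
  map_one' := Submodule.linearMap_qext _ (LinearMap.ext fun v => by simp)
  map_mul' a b := Submodule.linearMap_qext _ (LinearMap.ext fun v => by simp)

section Quot

variable {S : Submodule K V} (hS : IsInv ρ S)

theorem quotRep_mkQ (g : SL(2, ZMod p)) (v : V) : quotRep hS g (S.mkQ v) = S.mkQ (ρ g v) := rfl

theorem mkQ_aOp_pow (j : ℕ) (v : V) : S.mkQ ((aOp ρ ^ j) v) = (aOp (quotRep hS) ^ j) (S.mkQ v) := by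
  induction j with
  | zero => rfl
  | succ j ih =>
    rw [pow_succ', Module.End.mul_apply, pow_succ', Module.End.mul_apply, ← ih, aOp_apply, aOp_apply,
      quotRep_mkQ, map_sub]

theorem aOp_mkQ_eq_zero_iff {v : V} : aOp (quotRep hS) (S.mkQ v) = 0 ↔ aOp ρ v ∈ S := by
  rw [aOp_apply, quotRep_mkQ, ← map_sub, ← aOp_apply, Submodule.mkQ_apply, Submodule.Quotient.mk_eq_zero]

theorem isWt_mkQ {v : V} {k : ℤ} (hv : IsWt ρ v k) : IsWt (quotRep hS) (S.mkQ v) k := fun t => by
  rw [quotRep_mkQ, hv t, map_smul]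

theorem mkQ_proj (k : ℤ) (v : V) : S.mkQ (proj ρ k v) = proj (quotRep hS) k (S.mkQ v) := by
  simp only [proj_apply, map_neg, map_sum, map_smul, quotRep_mkQ]

theorem isInv_comap {F : Submodule K (V ⧸ S)} (hF : IsInv (quotRep hS) F) : IsInv ρ (F.comap S.mkQ) := by
  intro g v hv
  rw [Submodule.mem_comap, ← quotRep_mkQ hS]
  exact hF g _ hv

end Quot

theorem proj_of_isWt {v : V} {k : ℤ} (hv : IsWt ρ v k) : proj ρ k v = v := by
  rw [proj_apply]
  have h : ∀ t : (ZMod p)ˣ, ((chi p K t ^ (-k) : Kˣ) : K) • ρ (hE p t) v = v := fun t => by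
    rw [hv t, smul_smul, ← Units.val_mul, ← _root_.zpow_add, neg_add_cancel, zpow_zero, Units.val_one,
      one_smul]
  rw [Finset.sum_congr rfl fun t _ => h t, Finset.sum_const, Finset.card_univ, ZMod.card_units,
    ← Nat.cast_smul_eq_nsmul K, Nat.cast_sub (Fact.out : p.Prime).one_le, CharP.cast_eq_zero, Nat.cast_one,
    zero_sub, neg_one_smul, neg_neg]

theorem xE_pow_three : (xE p) ^ 3 = 1 := by
  rw [pow_succ, pow_two]
  refine Subtype.ext ?_
  show (xE p).1 * (xE p).1 * (xE p).1 = 1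
  ext i j
  fin_cases i <;> fin_cases j <;> simp [xE, Matrix.mul_apply, Fin.sum_univ_two]

theorem card_fixIdx_ge (d : ℕ) : (d + 1) / 3 ≤ (fixIdx d).card := by
  have h := Finset.card_le_card_of_injOn (s := (Finset.univ : Finset (Fin ((d + 1) / 3))))
    (t := fixIdx d) (fun j => (⟨3 * (j : ℕ) + 2 * d % 3, by omega⟩ : Fin (d + 1)))
    (fun j _ => Finset.mem_filter.2 ⟨Finset.mem_univ _, by simp only; omega⟩)
    (fun a _ b _ h => Fin.ext (by
      have := congrArg Fin.val h
      simp only at this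
      omega))
  simpa using h

variable [FiniteDimensional K V]

theorem finrank_map_add_inf_ker {W : Type*} [AddCommGroup W] [Module K W] (T : V →ₗ[K] W)
    (U : Submodule K V) :
    finrank K (U.map T) + finrank K ↥(U ⊓ LinearMap.ker T) = finrank K U := by
  refine le_antisymm ?_ (finrank_le_map_add_inf_ker T U)
  have h := (T.domRestrict U).finrank_range_add_finrank_ker
  rw [LinearMap.range_domRestrict] at h
  have h2 : finrank K ↥(U ⊓ LinearMap.ker T) ≤ finrank K (LinearMap.ker (T.domRestrict U)) := by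
    refine LinearMap.finrank_le_finrank_of_injective
      (f := ((Submodule.inclusion (inf_le_left : U ⊓ LinearMap.ker T ≤ U)).codRestrict
        (LinearMap.ker (T.domRestrict U)) fun u => LinearMap.mem_ker.2 u.2.2)) fun a b hab => ?_
    exact Submodule.inclusion_injective _ (congrArg Subtype.val hab)
  omega

theorem finrank_comap_mkQ (S : Submodule K V) (F : Submodule K (V ⧸ S)) :
    finrank K (F.comap S.mkQ) = finrank K S + finrank K F := by
  have h := finrank_map_add_inf_ker S.mkQ (F.comap S.mkQ)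
  have hle : S ≤ F.comap S.mkQ := fun v hv => by
    rw [Submodule.mem_comap, Submodule.mkQ_apply, (Submodule.Quotient.mk_eq_zero S).2 hv]
    exact zero_mem _
  rw [Submodule.map_comap_eq_of_surjective S.mkQ_surjective, Submodule.ker_mkQ, inf_eq_right.2 hle] at h
  omega

/-- The fixed space of the element of order three is additive. -/
theorem fix_add (h3 : (3 : K) ≠ 0) {S : Submodule K V} (hS : IsInv ρ S) {F : Submodule K (V ⧸ S)}
    (_hF : IsInv (quotRep hS) F) :
    finrank K ↥(fixSub (ρ (xE p)) ⊓ S) + finrank K ↥(fixSub (quotRep hS (xE p)) ⊓ F) ≤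
      finrank K ↥(fixSub (ρ (xE p)) ⊓ F.comap S.mkQ) := by
  have hT : ρ (xE p) ^ 3 = 1 := by rw [← map_pow, xE_pow_three, map_one]
  have hle : fixSub (quotRep hS (xE p)) ⊓ F ≤ (fixSub (ρ (xE p)) ⊓ F.comap S.mkQ).map S.mkQ := by
    rintro y ⟨hy, hyF⟩
    obtain ⟨v, rfl⟩ := S.mkQ_surjective y
    have hy' := mem_fixSub.1 hy
    have hpow : ∀ i, S.mkQ ((ρ (xE p) ^ i) v) = S.mkQ v := by
      intro i
      induction i with
      | zero => rfl
      | succ i ih => rw [pow_succ', Module.End.mul_apply, ← quotRep_mkQ hS, ih, hy']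
    have hsum : S.mkQ ((3 : K)⁻¹ • ∑ i ∈ Finset.range 3, (ρ (xE p) ^ i) v) = S.mkQ v := by
      rw [map_smul, map_sum, Finset.sum_congr rfl fun i _ => hpow i, Finset.sum_const, Finset.card_range,
        ← Nat.cast_smul_eq_nsmul K, smul_smul, Nat.cast_ofNat, inv_mul_cancel₀ h3, one_smul]
    refine ⟨_, ⟨Submodule.smul_mem _ _ (sum_pow_mem_fixSub _ hT v), ?_⟩, hsum⟩
    rw [SetLike.mem_coe, Submodule.mem_comap, hsum]
    exact hyF
  have h := finrank_map_add_inf_ker S.mkQ (fixSub (ρ (xE p)) ⊓ F.comap S.mkQ)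
  have h1 := Submodule.finrank_mono hle
  have h2 : finrank K ↥(fixSub (ρ (xE p)) ⊓ S) ≤
      finrank K ↥((fixSub (ρ (xE p)) ⊓ F.comap S.mkQ) ⊓ LinearMap.ker S.mkQ) := by
    refine Submodule.finrank_mono fun v hv => ?_
    have h0 : S.mkQ v = 0 := (Submodule.Quotient.mk_eq_zero S).2 hv.2
    exact ⟨⟨hv.1, by rw [SetLike.mem_coe, Submodule.mem_comap, h0]; exact zero_mem _⟩, h0⟩
  omega

theorem fix_add_top (h3 : (3 : K) ≠ 0) {S : Submodule K V} (hS : IsInv ρ S) :
    finrank K ↥(fixSub (ρ (xE p)) ⊓ S) + finrank K (fixSub (quotRep hS (xE p))) ≤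
      finrank K (fixSub (ρ (xE p))) := by
  have h := fix_add h3 hS (F := ⊤) (fun _ _ _ => Submodule.mem_top)
  rwa [inf_top_eq, Submodule.comap_top, inf_top_eq] at h

/-- The fixed space of `u` does not shrink in a quotient. -/
theorem fix_uE_quot_le {S : Submodule K V} (hS : IsInv ρ S) :
    finrank K (fixSub (quotRep hS (uE p))) ≤ finrank K (fixSub (ρ (uE p))) := by
  set P := (fixSub (quotRep hS (uE p))).comap S.mkQ with hP
  have hd : finrank K P = finrank K S + finrank K (fixSub (quotRep hS (uE p))) := finrank_comap_mkQ S _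
  have h1 := finrank_le_map_add_inf_ker (aOp ρ) P
  have h2 : finrank K (P.map (aOp ρ)) ≤ finrank K S := Submodule.finrank_mono (by
    rintro _ ⟨v, hv, rfl⟩
    rw [hP, SetLike.mem_coe, Submodule.mem_comap, mem_fixSub] at hv
    rw [← aOp_mkQ_eq_zero_iff hS, aOp_apply, hv, sub_self])
  have h3 : finrank K ↥(P ⊓ LinearMap.ker (aOp ρ)) ≤ finrank K (fixSub (ρ (uE p))) :=
    Submodule.finrank_mono inf_le_right
  omega

/-- Fixed vectors of the quotient lift. -/
def Lifts (ρ : SL(2, ZMod p) →* Module.End K V) (S : Submodule K V) : Prop :=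
  ∀ (k : ℤ) (v : V), IsWt ρ v k → aOp ρ v ∈ S → ∃ σ ∈ S, aOp ρ (v + σ) = 0

theorem fix_uE_add {S : Submodule K V} (hS : IsInv ρ S) (hlift : Lifts ρ S) :
    finrank K ↥(fixSub (ρ (uE p)) ⊓ S) + finrank K (fixSub (quotRep hS (uE p))) ≤
      finrank K (fixSub (ρ (uE p))) := by
  have hle : fixSub (quotRep hS (uE p)) ≤ (fixSub (ρ (uE p))).map S.mkQ := by
    intro y hy
    obtain ⟨v, rfl⟩ := S.mkQ_surjective y
    rw [mem_fixSub, ← sub_eq_zero, ← aOp_apply, aOp_mkQ_eq_zero_iff] at hy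
    choose σ hσ hfix using fun k : ℕ => hlift k _ (isWt_proj (k : ℤ) v) (aOp_proj_mem hS hy k)
    refine ⟨v + ∑ k ∈ Finset.range (p - 1), σ k, ?_, ?_⟩
    · rw [SetLike.mem_coe, mem_fixSub, ← sub_eq_zero, ← aOp_apply, ← sum_proj (ρ := ρ) v,
        ← Finset.sum_add_distrib, map_sum]
      exact Finset.sum_eq_zero fun k _ => hfix k
    · have h0 : S.mkQ (∑ k ∈ Finset.range (p - 1), σ k) = 0 :=
        (Submodule.Quotient.mk_eq_zero S).2 (Submodule.sum_mem _ fun k _ => hσ k)
      rw [map_add, h0, add_zero]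
  have h := finrank_map_add_inf_ker S.mkQ (fixSub (ρ (uE p)))
  have h1 := Submodule.finrank_mono hle
  rw [Submodule.ker_mkQ] at h
  omega

/-- A nonzero module has a weight vector fixed by `u`. -/
theorem exists_fix_weight (h : 0 < finrank K V) :
    ∃ (d : ℕ) (v : V), d < p - 1 ∧ v ≠ 0 ∧ ρ (uE p) v = v ∧ IsWt ρ v (d : ℤ) := by
  obtain ⟨v, hv0, hv⟩ : ∃ v : V, v ≠ 0 ∧ aOp ρ v = 0 := by
    by_contra hcon
    push Not at hcon
    have hall : ∀ (j : ℕ) (v : V), v ≠ 0 → (aOp ρ ^ j) v ≠ 0 := by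
      intro j
      induction j with
      | zero => exact fun v hv => hv
      | succ j ih =>
        intro v hv
        rw [pow_succ, Module.End.mul_apply]
        exact ih _ (hcon v hv)
    obtain ⟨v, hv⟩ := Module.finrank_pos_iff_exists_ne_zero.1 h
    exact hall p v hv (by rw [aOp_pow_prime, LinearMap.zero_apply])
  obtain ⟨d, hd, hne⟩ : ∃ d ∈ Finset.range (p - 1), proj ρ (d : ℤ) v ≠ 0 := by
    by_contra hcon
    push Not at hcon
    exact hv0 (by rw [← sum_proj (ρ := ρ) v, Finset.sum_eq_zero hcon])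
  refine ⟨d, _, Finset.mem_range.1 hd, hne, ?_, isWt_proj _ _⟩
  rw [← sub_eq_zero, ← aOp_apply, aOp_proj_eq_zero hv]

/-- An obstruction to lifting, read in the quotient. -/
theorem exists_emb_quot {S : Submodule K V} (hS : IsInv ρ S) {v : V} {k : ℤ} (hw : IsWt ρ v k)
    (hav : aOp ρ v ∈ S) (hbad : ∀ σ ∈ S, aOp ρ (v + σ) ≠ 0) {d : ℕ} (hd : d < p - 1)
    (hdk : ((p - 1 : ℕ) : ℤ) ∣ k - d) :
    (∃ φ, IsEmb (quotRep hS) (p - 1 - d) φ) ∨
      ∃ φ, IsEmb (quotRep hS) d φ ∧ φ (mon K d 0) = S.mkQ v := by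
  refine exists_emb (v := S.mkQ v) (fun h => hbad (-v) (neg_mem ((Submodule.Quotient.mk_eq_zero S).1 h)) ?_) ?_
    (isWt_mkQ hS hw) hd hdk
  · rw [add_neg_cancel, map_zero]
  · rw [← sub_eq_zero, ← aOp_apply, aOp_mkQ_eq_zero_iff]
    exact hav

/-- A chain in a quotient lifted. -/
theorem exists_lift_top {S : Submodule K V} (hS : IsInv ρ S) {d : ℕ} (hd : d < p)
    {φ : (Plane p → K) →ₗ[K] V ⧸ S} (hE : IsEmb (quotRep hS) d φ) {v : V}
    (hv : φ (mon K d 0) = S.mkQ v) :
    ∃ ℓ, ℓ ∈ ((symPow p K d).map φ).comap S.mkQ ∧ IsWt ρ ℓ (-(d : ℤ)) ∧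
      ∃ σ ∈ S, (aOp ρ ^ d) ℓ = (d.factorial : K) • v + σ := by
  obtain ⟨w, hw⟩ := S.mkQ_surjective (φ (mon K d d))
  refine ⟨proj ρ (-(d : ℤ)) w, ?_, isWt_proj _ _, _, ?_, (add_sub_cancel _ _).symm⟩
  · rw [Submodule.mem_comap, mkQ_proj hS, hw, proj_of_isWt (hE.isBlock hd).wt]
    exact Submodule.mem_map_of_mem (mon_mem K le_rfl)
  · rw [← Submodule.Quotient.mk_eq_zero S, ← Submodule.mkQ_apply, map_sub, map_smul, mkQ_aOp_pow hS,
      mkQ_proj hS, hw, proj_of_isWt (hE.isBlock hd).wt, hE.aOp_pow (mon_mem K le_rfl), lowA_pow_top le_rfl,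
      map_smul, hv, sub_self]

theorem four_mul_ge {s : ℕ} (h1 : s ≠ 1) (h4 : s ≠ 4) : s + 1 ≤ 4 * (fixIdx s).card := by
  have h := card_fixIdx_ge s
  rcases Nat.eq_zero_or_pos s with rfl | hs
  · decide
  · omega

/-- The inequality, by induction on the dimension. -/
theorem finrank_le_fix (hp : 7 ≤ p) {ω : K} (hω : ω ^ 2 + ω + 1 = 0)
    (ρ : SL(2, ZMod p) →* Module.End K V) :
    finrank K V ≤ 4 * finrank K (fixSub (ρ (xE p))) + 2 * finrank K (fixSub (ρ (uE p))) := by
  have hpp : p.Prime := Fact.out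
  have h3 : (3 : K) ≠ 0 := fun h => by
    have h' : ((3 : ℕ) : K) = 0 := by exact_mod_cast h
    rw [CharP.cast_eq_zero_iff K p] at h'
    have := Nat.le_of_dvd (by norm_num) h'
    omega
  induction hn : finrank K V using Nat.strong_induction_on generalizing V with
  | _ n ih =>
  subst hn
  -- a quotient by a subspace that fixes enough
  have step : ∀ (Y : Submodule K V) (hY : IsInv ρ Y) (c e : ℕ), 0 < finrank K Y →
      c ≤ finrank K ↥(fixSub (ρ (xE p)) ⊓ Y) →
      e + finrank K (fixSub (quotRep hY (uE p))) ≤ finrank K (fixSub (ρ (uE p))) →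
      finrank K Y ≤ 4 * c + 2 * e →
      finrank K V ≤ 4 * finrank K (fixSub (ρ (xE p))) + 2 * finrank K (fixSub (ρ (uE p))) := by
    intro Y hY c e hpos hc he hle
    have hq := Y.finrank_quotient_add_finrank
    have hfx := fix_add_top h3 hY
    have := ih (finrank K (V ⧸ Y)) (by omega) (quotRep hY) rfl
    omega
  rcases Nat.eq_zero_or_pos (finrank K V) with h0 | h0
  · omega
  -- the bottom factor
  obtain ⟨d₀, v₀, hd₀, hv₀, hu₀, hw₀⟩ := exists_fix_weight (ρ := ρ) h0
  obtain ⟨s, φ, hs, hE⟩ : ∃ (s : ℕ) (φ : (Plane p → K) →ₗ[K] V), s < p ∧ IsEmb ρ s φ := by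
    rcases exists_emb hv₀ hu₀ hw₀ hd₀ (by simp) with ⟨φ, hφ⟩ | ⟨φ, hφ, -⟩
    · exact ⟨_, φ, by omega, hφ⟩
    · exact ⟨_, φ, by omega, hφ⟩
  obtain ⟨S, ℓ₀, hB, hSdim, hc⟩ : ∃ (S : Submodule K V) (ℓ₀ : V), IsBlock ρ S ℓ₀ (-(s : ℤ)) s ∧
      finrank K S = s + 1 ∧ (fixIdx s).card ≤ finrank K ↥(fixSub (ρ (xE p)) ⊓ S) :=
    ⟨_, _, hE.isBlock hs, hE.finrank_map hs, hE.card_fixIdx_le hs hω h3⟩
  by_cases hs14 : s ≠ 1 ∧ s ≠ 4
  · have := four_mul_ge hs14.1 hs14.2
    exact step S hB.inv _ 0 (by omega) hc (by simpa using fix_uE_quot_le hB.inv) (by omega)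
  have hs' : s = 1 ∨ s = 4 := by omega
  have hcs : s ≤ 4 * (fixIdx s).card + 1 := by rcases hs' with rfl | rfl <;> decide
  by_cases hlift : Lifts ρ S
  · have h1 := fix_uE_add hB.inv hlift
    have h2 := hB.fix_pos
    exact step S hB.inv _ 1 (by omega) hc (by omega) (by omega)
  simp only [Lifts] at hlift
  push Not at hlift
  obtain ⟨k, v, hvw, hav, hbad⟩ := hlift
  obtain ⟨hdvd, htop⟩ := hB.obstruction hvw hav hbad
  have h2 : (p - 1 : ℕ) = p - 3 - s + (s + 2) := by omega
  rcases exists_emb_quot hB.inv hvw hav hbad (d := p - 3 - s) (by omega) (by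
    have : k - ((p - 3 - s : ℕ) : ℤ) = k + 2 - -(s : ℤ) - ((p - 1 : ℕ) : ℤ) := by omega
    rw [this]
    exact dvd_sub hdvd dvd_rfl) with ⟨φ', hE'⟩ | ⟨φ', hE', hφv⟩
  · -- the next factor is small
    rw [show p - 1 - (p - 3 - s) = s + 2 by omega] at hE'
    have hd := hE'.finrank_map (by omega)
    have hc' := hE'.card_fixIdx_le (by omega) hω h3
    have hadd := fix_add h3 hB.inv hE'.isInv
    have hY := finrank_comap_mkQ S ((symPow p K (s + 2)).map φ')
    have hcnt : s + 1 + (s + 3) ≤ 4 * ((fixIdx s).card + (fixIdx (s + 2)).card) := by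
      rcases hs' with rfl | rfl <;> decide
    exact step _ (isInv_comap hB.inv hE'.isInv) ((fixIdx s).card + (fixIdx (s + 2)).card) 0 (by omega)
      (by omega) (by simpa using fix_uE_quot_le _) (by omega)
  obtain ⟨d, hd_eq⟩ : ∃ d, d = p - 3 - s := ⟨_, rfl⟩
  rw [← hd_eq] at hE' hφv
  have hd := hE'.finrank_map (by omega)
  have hc' := hE'.card_fixIdx_le (by omega) hω h3
  have hadd := fix_add h3 hB.inv hE'.isInv
  have hYinv := isInv_comap hB.inv hE'.isInv
  have hY := finrank_comap_mkQ S ((symPow p K d).map φ')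
  set Y := ((symPow p K d).map φ').comap S.mkQ with hYdef
  by_cases hgood : s + 1 + (d + 1) ≤ 4 * ((fixIdx s).card + (fixIdx d).card)
  · exact step Y hYinv ((fixIdx s).card + (fixIdx d).card) 0 (by omega) (by omega)
      (by simpa using fix_uE_quot_le _) (by omega)
  -- `p = 11`
  have hd11 : p = 11 ∧ 2 ≤ (fixIdx s).card + (fixIdx d).card := by
    have hge := card_fixIdx_ge d
    have hlt : p < 17 := by
      by_contra hlt
      rcases hs' with rfl | rfl <;> omega
    have hp3 : p = 7 ∨ p = 11 ∨ p = 13 := by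
      rcases (show p = 7 ∨ p = 8 ∨ p = 9 ∨ p = 10 ∨ p = 11 ∨ p = 12 ∨ p = 13 ∨ p = 14 ∨ p = 15 ∨ p = 16 by
        omega) with h | h | h | h | h | h | h | h | h | h <;>
        first | omega | (exfalso; rw [h] at hpp; norm_num at hpp)
    rcases hs' with rfl | rfl
    · rcases hp3 with h | h | h
      · obtain rfl : d = 3 := by omega
        exact absurd (by decide) hgood
      · obtain rfl : d = 7 := by omega
        exact ⟨h, by decide⟩
      · obtain rfl : d = 9 := by omega
        exact absurd (by decide) hgood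
    · rcases hp3 with h | h | h
      · obtain rfl : d = 0 := by omega
        exact absurd (by decide) hgood
      · obtain rfl : d = 4 := by omega
        exact ⟨h, by decide⟩
      · obtain rfl : d = 6 := by omega
        exact absurd (by decide) hgood
  obtain ⟨hp11, hcnt⟩ := hd11
  obtain ⟨ℓ, hℓY, hℓw, σ, hσ, hℓ⟩ := exists_lift_top hB.inv (by omega) hE' hφv
  have hB' : IsBlock ρ Y ℓ (-(d : ℤ)) (s + 1 + d) := by
    refine ⟨hYinv, hℓY, hℓw, by omega, ?_⟩
    rw [pow_add, Module.End.mul_apply, hℓ, map_add, map_smul, hB.pow_eq_zero hσ, add_zero]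
    exact smul_ne_zero (factorial_ne_zero (by omega)) htop
  by_cases hlift' : Lifts ρ Y
  · have h1 := fix_uE_add hYinv hlift'
    have h2 := hB'.fix_pos
    exact step Y hYinv 2 1 (by omega) (by omega) (by omega) (by omega)
  simp only [Lifts] at hlift'
  push Not at hlift'
  obtain ⟨k', v', hvw', hav', hbad'⟩ := hlift'
  obtain ⟨hdvd', htop'⟩ := hB'.obstruction hvw' hav' hbad'
  rcases exists_emb_quot hYinv hvw' hav' hbad' (d := s) (by omega) (by
    have : k' - (s : ℤ) = k' + 2 - -(d : ℤ) - ((p - 1 : ℕ) : ℤ) := by omega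
    rw [this]
    exact dvd_sub hdvd' dvd_rfl) with ⟨φ'', hE''⟩ | ⟨φ'', hE'', hφv'⟩
  · have hd2 := hE''.finrank_map (by omega)
    have hc2 := hE''.card_fixIdx_le (by omega) hω h3
    have hadd2 := fix_add h3 hYinv hE''.isInv
    have hY2 := finrank_comap_mkQ Y ((symPow p K (p - 1 - s)).map φ'')
    have hcnt2 : p - 1 - s + 11 ≤ 4 * (2 + (fixIdx (p - 1 - s)).card) := by
      rcases hs' with rfl | rfl <;> rw [hp11] <;> decide
    exact step _ (isInv_comap hYinv hE''.isInv) (2 + (fixIdx (p - 1 - s)).card) 0 (by omega)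
      (by omega) (by simpa using fix_uE_quot_le _) (by omega)
  · -- a chain longer than `p`
    exfalso
    obtain ⟨ℓ', -, -, y, hy, hℓ'⟩ := exists_lift_top hYinv (by omega) hE'' hφv'
    have hne : (aOp ρ ^ (s + 1 + d + 1 + s)) ℓ' ≠ 0 := by
      rw [pow_add, Module.End.mul_apply, hℓ', map_add, map_smul, hB'.pow_eq_zero hy, add_zero]
      exact smul_ne_zero (factorial_ne_zero (by omega)) htop'
    obtain ⟨j, hj⟩ : ∃ j, s + 1 + d + 1 + s = j + p := ⟨_, (Nat.sub_add_cancel (by omega)).symm⟩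
    exact hne (by rw [hj, pow_add, aOp_pow_prime, mul_zero, LinearMap.zero_apply])

end Cfsg.Agent.FixSixth
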