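import Cfsg.Agent.Lib.FixSixth.Basic

/-!
# Six translates of a fixed space (statement S5720; owner helper90)

`finrank_le_six` : for `x³ = 1`, `y² = z`, `u = x y` of order `p` and `h ∈ x ⟨u⟩ x ⟨u⟩ x` with `uʰ = u⁴`, in
characteristic different from `p`: `dim V ≤ 6 dim C(x)`.
-/

set_option autoImplicit false
set_option linter.unusedSectionVars false

open Module

namespace Cfsg.Agent.FixSixth

open FixedHalf (fixSub mem_fixSub)

variable {K : Type*} [Field K] {V : Type*} [AddCommGroup V] [Module K V] [FiniteDimensional K V]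
  {G : Type*} [Group G]

theorem finrank_le_add_ker_of_range_le (φ : Module.End K V) (S : Submodule K V) (hS : LinearMap.range φ ≤ S)
    (U : Submodule K V) (A : Module.End K V) :
    finrank K U ≤ finrank K S + finrank K ↥(U ⊓ LinearMap.ker (φ * A)) :=
  (finrank_le_map_add_inf_ker (φ * A) U).trans (Nat.add_le_add_right (Submodule.finrank_mono (by
    rintro _ ⟨v, -, rfl⟩
    exact hS ⟨A v, rfl⟩)) _)

theorem finrank_le_six (h2 : (2 : K) ≠ 0) (h3 : (3 : K) ≠ 0) {p : ℕ} (hp : p.Prime) (hp7 : 7 ≤ p)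
    (hpK : (p : K) ≠ 0) (ρ : G →* Module.End K V) {x y z u h : G} (b c : ℕ)
    (hx : x * x * x = 1) (hy : y * y = z) (hz : z * z = 1) (hzx : z * x = x * z)
    (hu : u = x * y) (hup : u ^ p = 1) (hh : h = x * u ^ b * x * u ^ c * x) (huh : u * h = h * u ^ 4) :
    finrank K V ≤ 6 * finrank K (fixSub (ρ x)) := by
  have hzy : z * y = y * z := by rw [← hy, mul_assoc]
  have hzu : z * u = u * z := by rw [hu, ← mul_assoc, hzx, mul_assoc, hzy, mul_assoc]
  have hu' : z * u⁻¹ = y * (x * x) := by
    have hyi : y⁻¹ = z * y := inv_eq_of_mul_eq_one_right (by rw [← mul_assoc, ← hzy, mul_assoc, hy, hz])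
    have hxi : x⁻¹ = x * x := inv_eq_of_mul_eq_one_right (by rw [← mul_assoc, hx])
    rw [hu, mul_inv_rev, hyi, hxi, mul_assoc z y, ← mul_assoc z z, hz, one_mul]
  set φ : Module.End K V := 1 + ρ x + ρ (x * x) with hφ
  have hφfix : LinearMap.range φ ≤ fixSub (ρ x) := by
    rintro _ ⟨v, rfl⟩
    rw [mem_fixSub]
    simp only [hφ, LinearMap.add_apply, Module.End.one_apply, map_add, ← app_mul, ← mul_assoc, hx, app_one]
    abel
  let T : Module.End K V := ρ u - ρ (z * u⁻¹)
  have hT : ∀ v, T v = ρ u v - ρ (z * u⁻¹) v := fun v => rfl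
  have hTu : ∀ (j : ℕ) v, T (ρ (u ^ j) v) = ρ (u ^ j) (T v) := fun j v => by
    rw [hT, hT, map_sub, ← app_mul, ← app_mul, ← app_mul, ← app_mul, ← pow_succ, ← pow_succ']
    congr 2
    rw [mul_assoc, (Commute.pow_right (Commute.inv_left (Commute.refl u)) j).eq, ← mul_assoc, ← mul_assoc,
      (Commute.pow_right (show Commute z u from hzu) j).eq]
  have hδ : ∀ v, φ v = 0 → φ (ρ y v) = 0 → T (ρ x v) = ρ x (T v) := by
    intro v h0 h1
    simp only [hφ, LinearMap.add_apply, Module.End.one_apply, ← app_mul] at h0 h1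
    rw [hT, hT, hu', hu, map_sub, ← app_mul, ← app_mul, ← app_mul, ← app_mul]
    have e1 : ρ (x * y * x) v = -(ρ (x * y) v) - ρ (x * y * (x * x)) v := by
      rw [app_mul ρ (x * y) x, show ρ x v = -v - ρ (x * x) v from
        eq_sub_of_add_eq (eq_neg_of_add_eq_zero_right (by rw [← add_assoc]; exact h0)), map_sub, map_neg,
        ← app_mul]
    have e2 : ρ (x * (x * y)) v = -(ρ y v) - ρ (x * y) v := by
      rw [show x * (x * y) = x * x * y from (mul_assoc _ _ _).symm]
      exact eq_sub_of_add_eq (eq_neg_of_add_eq_zero_right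
        (by rw [← h1]; abel))
    rw [e1, e2, show y * (x * x) * x = y by rw [mul_assoc, hx, mul_one],
      show x * (y * (x * x)) = x * y * (x * x) from (mul_assoc _ _ _).symm]
    abel
  -- the six conditions
  let A : Module.End K V := ρ (u ^ c) * ρ x
  let B : Module.End K V := ρ (u ^ b) * ρ x * A
  let U1 : Submodule K V := ⊤ ⊓ LinearMap.ker (φ * 1)
  let U2 : Submodule K V := U1 ⊓ LinearMap.ker (φ * ρ y)
  let U3 : Submodule K V := U2 ⊓ LinearMap.ker (φ * A)
  let U4 : Submodule K V := U3 ⊓ LinearMap.ker (φ * (ρ y * A))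
  let U5 : Submodule K V := U4 ⊓ LinearMap.ker (φ * B)
  let U6 : Submodule K V := U5 ⊓ LinearMap.ker (φ * (ρ y * B))
  have hdim : finrank K V ≤ 6 * finrank K (fixSub (ρ x)) + finrank K U6 := by
    have e1 : finrank K (⊤ : Submodule K V) ≤ _ + finrank K U1 := finrank_le_add_ker_of_range_le φ _ hφfix ⊤ 1
    have e2 : finrank K U1 ≤ _ + finrank K U2 := finrank_le_add_ker_of_range_le φ _ hφfix U1 (ρ y)
    have e3 : finrank K U2 ≤ _ + finrank K U3 := finrank_le_add_ker_of_range_le φ _ hφfix U2 A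
    have e4 : finrank K U3 ≤ _ + finrank K U4 := finrank_le_add_ker_of_range_le φ _ hφfix U3 (ρ y * A)
    have e5 : finrank K U4 ≤ _ + finrank K U5 := finrank_le_add_ker_of_range_le φ _ hφfix U4 B
    have e6 : finrank K U5 ≤ _ + finrank K U6 := finrank_le_add_ker_of_range_le φ _ hφfix U5 (ρ y * B)
    rw [finrank_top] at e1
    omega
  have hUmem : ∀ w, w ∈ U6 ↔ φ w = 0 ∧ φ (ρ y w) = 0 ∧ φ (A w) = 0 ∧ φ (ρ y (A w)) = 0 ∧ φ (B w) = 0 ∧
      φ (ρ y (B w)) = 0 := fun w => by
    simp [U6, U5, U4, U3, U2, U1, and_assoc]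
  have hkey : ∀ w ∈ U6, ρ (u ^ 4) w - ρ (z * u⁻¹ ^ 4) w = T w := by
    intro w hw
    obtain ⟨c1, c2, c3, c4, c5, c6⟩ := (hUmem w).1 hw
    have s1 : T (ρ x w) = ρ x (T w) := hδ w c1 c2
    have s2 : T (ρ x (A w)) = ρ x (ρ (u ^ c) (ρ x (T w))) := by
      rw [hδ _ c3 c4, show A w = ρ (u ^ c) (ρ x w) from rfl, hTu, s1]
    have s3 : T (ρ h w) = ρ h (T w) := by
      rw [hh]
      simp only [app_mul]
      show T (ρ x (B w)) = _
      rw [hδ _ c5 c6, show B w = ρ (u ^ b) (ρ x (A w)) from rfl, hTu, s2]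
    have hinj : Function.Injective (ρ h) := Function.LeftInverse.injective (g := ρ h⁻¹) fun v => by
      rw [← app_mul, inv_mul_cancel, app_one]
    refine hinj ?_
    rw [← s3, hT, map_sub, ← app_mul, ← app_mul, ← app_mul, ← app_mul, huh]
    congr 2
    have hc : Commute z h := by
      rw [hh]
      exact ((((Commute.mul_right hzx (Commute.pow_right hzu b)).mul_right hzx).mul_right
        (Commute.pow_right hzu c)).mul_right hzx)
    rw [inv_pow, ← mul_assoc, ← hc.eq, mul_assoc, mul_assoc]
    have e : h * (u ^ 4)⁻¹ = u⁻¹ * h := by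
      rw [eq_inv_mul_iff_mul_eq, ← mul_assoc, huh, mul_assoc, mul_inv_cancel, mul_one]
    rw [e]
  -- the common kernel is trivial
  have hUp : ∀ (k : ℕ), Nat.Coprime k p → ∀ v, ρ (u ^ k) v = v → ρ u v = v := fun k hk v hv =>
    fix_pow_of_coprime (ρ u) (n := p) (by rw [← map_pow, hup, map_one]) hk (by rwa [← map_pow])
  have hco : ∀ k, 0 < k → k < p → Nat.Coprime k p := fun k h1 h2 =>
    ((hp.coprime_iff_not_dvd).2 (Nat.not_dvd_of_pos_of_lt h1 h2)).symm
  have hco10 : Nat.Coprime 10 p := by
    have h1 := hco 2 (by omega) (by omega)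
    have h5 := hco 5 (by omega) (by omega)
    exact Nat.Coprime.mul_left h1 h5
  have hlin : ∀ (v a : V), ρ u v = v + a → ρ u a = a → a = 0 := by
    intro v a hv ha
    have hj : ∀ j : ℕ, ρ (u ^ j) v = v + (j : K) • a := by
      intro j
      induction j with
      | zero => simp
      | succ j ih =>
        rw [pow_succ', app_mul, ih, map_add, map_smul, hv, ha, Nat.cast_succ, add_smul, one_smul]; abel
    have := hj p
    rw [hup, app_one] at this
    exact (smul_eq_zero.1 (add_eq_left.1 this.symm)).resolve_left hpK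
  have hzero : ∀ w ∈ U6, ∀ ε : K, ε = 1 ∨ ε = -1 → ρ z w = ε • w → w = 0 := by
    intro w hw ε hε hzw
    have hZ : ∀ g, z * g = g * z → ρ z (ρ g w) = ε • ρ g w := fun g hg => by
      rw [← app_mul, hg, app_mul, hzw, map_smul]
    have e := hkey w hw
    rw [hT] at e
    have hzi : ∀ j : ℕ, z * u⁻¹ ^ j = u⁻¹ ^ j * z := fun j =>
      ((Commute.inv_right (show Commute z u from hzu)).pow_right j).eq
    rw [hzi 4, show z * u⁻¹ = u⁻¹ * z by simpa using hzi 1, app_mul, app_mul ρ u⁻¹, hzw, map_smul,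
      map_smul] at e
    have e8 := congrArg (ρ (u ^ 4)) e
    simp only [map_sub, map_smul, ← app_mul] at e8
    rw [← pow_add, inv_pow, mul_inv_cancel, app_one, ← pow_succ,
      show u ^ 4 * u⁻¹ = u ^ 3 by rw [pow_succ u 3, mul_assoc, mul_inv_cancel, mul_one]] at e8
    -- `e8 : u⁸ w - ε w = u⁵ w - ε u³ w`
    have h1 : ρ u (ρ (u ^ 5) w + ε • w) = ρ (u ^ 5) w + ε • w := by
      refine hUp 3 (hco 3 (by omega) (by omega)) _ ?_
      rw [map_add, map_smul, ← app_mul, ← pow_add]
      linear_combination (norm := (norm_num; abel)) e8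
    set a := ρ u w - w with ha
    have h5 : ρ (u ^ 5) a = -(ε • a) := by
      rw [map_add, map_smul, ← app_mul, ← pow_succ'] at h1
      rw [ha, map_sub, ← app_mul, ← pow_succ, smul_sub]
      linear_combination (norm := (norm_num; abel)) h1
    have hfix : ρ u w = w := by
      rcases hε with rfl | rfl
      · have h10 : ρ (u ^ 10) a = a := by
          rw [show (10 : ℕ) = 5 + 5 from rfl, pow_add, app_mul, h5, map_neg, map_smul, h5]
          simp
        have h5' : ρ (u ^ 5) a = a := by
          rw [map_pow]; exact app_pow_of_fix _ (hUp 10 hco10 a h10) 5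
        rw [h5', one_smul] at h5
        have : (2 : K) • a = 0 := by rw [two_smul]; exact eq_neg_iff_add_eq_zero.1 h5
        exact sub_eq_zero.1 ((smul_eq_zero.1 this).resolve_left h2)
      · rw [neg_smul, neg_neg, one_smul] at h5
        exact sub_eq_zero.1 (hlin w a (by rw [ha]; abel) (hUp 5 (hco 5 (by omega) (by omega)) a h5))
    obtain ⟨c1, -⟩ := (hUmem w).1 hw
    simp only [hφ, LinearMap.add_apply, Module.End.one_apply] at c1
    set q := ρ (x * x) w with hq
    have hyw : ρ y w = q := by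
      rw [hq]
      conv_rhs => rw [← hfix, ← app_mul, hu, ← mul_assoc, hx, one_mul]
    have huq : ρ u q = -(ε • w) - ε • q := by
      rw [hu, app_mul, ← hyw, ← app_mul ρ y y, hy, hzw, map_smul,
        show ρ x w = -w - q from eq_sub_of_add_eq (eq_neg_of_add_eq_zero_right (by rw [← add_assoc]; exact c1)),
        smul_sub, smul_neg, hyw]
    rcases hε with rfl | rfl
    · rw [one_smul, one_smul] at huq
      have h22 : ρ (u ^ 2) q = q := by
        rw [pow_two, app_mul, huq, map_sub, map_neg, hfix, huq]; abel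
      rw [hUp 2 (hco 2 (by omega) (by omega)) q h22] at huq
      have hq2 : (2 : K) • q = -w := by
        rw [two_smul]
        nth_rewrite 1 [huq]
        abel
      have hXw : ρ x w = -w - q :=
        eq_sub_of_add_eq (eq_neg_of_add_eq_zero_right (by rw [← add_assoc]; exact c1))
      have hSq : ρ (x * x) q = ρ x w := by
        rw [hq, ← app_mul, show x * x * (x * x) = x * x * x * x from (mul_assoc _ _ _).symm, hx, one_mul]
      have e1 : (2 : K) • ρ x w = -q := by rw [← hSq, ← map_smul, hq2, map_neg, ← hq]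
      rw [hXw] at e1
      have e2 : q = -((2 : K) • w) := by linear_combination (norm := module) -e1
      rw [e2] at hq2
      have h3w : (3 : K) • w = 0 := by linear_combination (norm := module) -hq2
      exact (smul_eq_zero.1 h3w).resolve_left h3
    · refine hlin q w ?_ hfix
      rw [huq]; simp [add_comm]
  have hbot : U6 = ⊥ := by
    refine (Submodule.eq_bot_iff _).2 fun w hw => ?_
    have hzz : ρ z (ρ z w) = w := by rw [← app_mul, hz, app_one]
    have hcl : ∀ v ∈ U6, ρ z v ∈ U6 := fun v hv => by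
      have hcx : Commute (ρ z) (ρ x) := (show Commute z x from hzx).map ρ
      have hcy : Commute (ρ z) (ρ y) := (show Commute z y from hzy).map ρ
      have hcu : ∀ j : ℕ, Commute (ρ z) (ρ (u ^ j)) := fun j => ((show Commute z u from hzu).pow_right j).map ρ
      have hcφ : Commute (ρ z) φ := by
        rw [hφ]
        exact ((Commute.one_right _).add_right hcx).add_right (by rw [map_mul]; exact hcx.mul_right hcx)
      have hcA : Commute (ρ z) A := (hcu c).mul_right hcx
      have hcB : Commute (ρ z) B := ((hcu b).mul_right hcx).mul_right hcA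
      have mv : ∀ N : Module.End K V, Commute (ρ z) N → φ (N v) = 0 → φ (N (ρ z v)) = 0 := fun N hN h0 => by
        have := LinearMap.congr_fun ((hcφ.mul_right hN).eq) v
        simp only [Module.End.mul_apply] at this
        rw [← this, h0, map_zero]
      obtain ⟨c1, c2, c3, c4, c5, c6⟩ := (hUmem v).1 hv
      exact (hUmem _).2 ⟨mv 1 (Commute.one_right _) c1, mv _ hcy c2, mv _ hcA c3,
        mv _ (hcy.mul_right hcA) c4, mv _ hcB c5, mv _ (hcy.mul_right hcB) c6⟩
    have p1 := hzero (w + ρ z w) (add_mem hw (hcl w hw)) 1 (Or.inl rfl)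
      (by rw [map_add, hzz, one_smul, add_comm])
    have p2 := hzero (w - ρ z w) (sub_mem hw (hcl w hw)) (-1) (Or.inr rfl)
      (by rw [map_sub, hzz, neg_one_smul, neg_sub])
    have : (2 : K) • w = 0 := by
      rw [two_smul, show w + w = (w + ρ z w) + (w - ρ z w) by abel, p1, p2, add_zero]
    exact (smul_eq_zero.1 this).resolve_left h2
  rw [hbot, finrank_bot, add_zero] at hdim
  exact hdim

end Cfsg.Agent.FixSixth
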