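import Cfsg.Agent.Lib.FixSixth.CharP
import Cfsg.Agent.Lib.FixSixth.SixHop
import Cfsg.Agent.Lib.FixedHalf.Subquot

/-!
# `SL₂(p)`, `p ≥ 7`, has an element fixing a sixth of every module (S5720; owner helper90)

`hasLargeFix_SL2` : over every field and for every representation.
-/

set_option autoImplicit false
set_option linter.unusedSectionVars false

open Module Matrix
open scoped MatrixGroups TensorProduct

namespace Cfsg.Agent.FixSixth

open FixedHalf (fixSub mem_fixSub)

/-- A prime vanishing in a field is its characteristic. -/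
theorem charP_of_natCast_eq_zero {K : Type*} [Field K] {r : ℕ} (hr : r.Prime) (h : (r : K) = 0) :
    CharP K r := by
  obtain ⟨q, hq⟩ := CharP.exists K
  haveI := hq
  rcases (Nat.dvd_prime hr).1 ((CharP.cast_eq_zero_iff K q r).1 h) with rfl | rfl
  · exact absurd rfl (CharP.char_ne_one K 1)
  · exact hq

theorem finrank_range_baseChange {k : Type*} [Field k] (K : Type*) [Field K] [Algebra k K]
    {V : Type*} [AddCommGroup V] [Module k V] [FiniteDimensional k V] (f : Module.End k V) :
    finrank K (LinearMap.range (LinearMap.baseChange K f)) = finrank k (LinearMap.range f) := by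
  set ι := (LinearMap.range f).subtype.baseChange K with hιdef
  have hι : Function.Injective ι :=
    Module.Flat.lTensor_preserves_injective_linearMap (LinearMap.range f).subtype Subtype.val_injective
  have hs : Function.Surjective (f.rangeRestrict.baseChange K) :=
    LinearMap.lTensor_surjective K f.surjective_rangeRestrict
  have e : LinearMap.baseChange K f = ι ∘ₗ f.rangeRestrict.baseChange K := by
    rw [hιdef, ← LinearMap.baseChange_comp]
    rfl
  rw [e, LinearMap.range_comp, LinearMap.range_eq_top.2 hs, Submodule.map_top,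
    LinearMap.finrank_range_of_inj hι, Module.finrank_baseChange]

theorem finrank_fixSub_baseChange {k : Type*} [Field k] (K : Type*) [Field K] [Algebra k K]
    {V : Type*} [AddCommGroup V] [Module k V] [FiniteDimensional k V] (T : Module.End k V) :
    finrank K (fixSub (LinearMap.baseChange K T)) = finrank k (fixSub T) := by
  have e : LinearMap.baseChange K T - 1 = LinearMap.baseChange K (T - 1) := by
    rw [LinearMap.baseChange_sub, LinearMap.baseChange_one]
  have h1 := (LinearMap.baseChange K (T - 1)).finrank_range_add_finrank_ker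
  have h2 := (T - 1).finrank_range_add_finrank_ker
  rw [finrank_range_baseChange, Module.finrank_baseChange] at h1
  have eK : fixSub (LinearMap.baseChange K T) = LinearMap.ker (LinearMap.baseChange K (T - 1)) := by
    rw [← e]; rfl
  rw [eK, show fixSub T = LinearMap.ker (T - 1) from rfl]
  omega

section Elements

variable {p : ℕ} [Fact p.Prime]

theorem xE_mul_three : xE p * xE p * xE p = 1 := by
  rw [← xE_pow_three (p := p), pow_succ, pow_two]

theorem xE_mul_wE : uE p = xE p * wE p := by
  refine Subtype.ext ?_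
  show _ = (xE p).1 * (wE p).1
  ext i j
  fin_cases i <;> fin_cases j <;> simp [xE, wE, uE, Matrix.mul_apply, Fin.sum_univ_two]

theorem wE_sq_val : (wE p * wE p).1 = !![-1, 0; 0, -1] := by
  show (wE p).1 * (wE p).1 = _
  ext i j
  fin_cases i <;> fin_cases j <;> simp [wE, Matrix.mul_apply, Fin.sum_univ_two]

theorem wE_sq_sq : wE p * wE p * (wE p * wE p) = 1 := by
  refine Subtype.ext ?_
  show (wE p * wE p).1 * (wE p * wE p).1 = 1
  rw [wE_sq_val]
  simp [Matrix.one_fin_two]

theorem wE_sq_comm_xE : wE p * wE p * xE p = xE p * (wE p * wE p) := by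
  refine Subtype.ext ?_
  show (wE p * wE p).1 * (xE p).1 = (xE p).1 * (wE p * wE p).1
  rw [wE_sq_val]
  ext i j
  fin_cases i <;> fin_cases j <;> simp [xE, Matrix.mul_apply, Fin.sum_univ_two]

theorem xE_ne_one : xE p ≠ 1 := fun h => by
  have := congrArg (fun g : SL(2, ZMod p) => g.1 1 0) h
  simp [xE] at this

theorem uE_ne_one : uE p ≠ 1 := fun h => by
  have := congrArg (fun g : SL(2, ZMod p) => g.1 0 1) h
  simp [uE] at this

theorem natCast_ne_zero_of_lt {n : ℕ} (h0 : n ≠ 0) (h : n < p) : (n : ZMod p) ≠ 0 :=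
  fun hn => h0 (Nat.eq_zero_of_dvd_of_lt ((CharP.cast_eq_zero_iff (ZMod p) p n).1 hn) h)

/-- The element of `x ⟨u⟩ x ⟨u⟩ x` raising `u` to its fourth power. -/
theorem exists_six_hop (hp : 7 ≤ p) : ∃ b c : ℕ,
    uE p * (xE p * uE p ^ b * xE p * uE p ^ c * xE p) =
      xE p * uE p ^ b * xE p * uE p ^ c * xE p * uE p ^ 4 := by
  refine ⟨(-3 : ZMod p).val, (-3 / 2 : ZMod p).val, ?_⟩
  have h2 : (2 : ZMod p) ≠ 0 := by simpa using natCast_ne_zero_of_lt (p := p) (n := 2) (by omega) (by omega)
  have eh : (xE p * uE p ^ (-3 : ZMod p).val * xE p * uE p ^ (-3 / 2 : ZMod p).val * xE p).1 =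
      !![-1 / 2, 3; 0, -2] := by
    show (xE p).1 * (uE p ^ _).1 * (xE p).1 * (uE p ^ _).1 * (xE p).1 = _
    rw [uE_pow, uE_pow, ZMod.natCast_zmod_val, ZMod.natCast_zmod_val]
    ext i j
    fin_cases i <;> fin_cases j <;> simp [xE, Matrix.mul_apply, Fin.sum_univ_two] <;>
      field_simp <;> ring
  refine Subtype.ext ?_
  show (uE p).1 * (xE p * uE p ^ _ * xE p * uE p ^ _ * xE p).1 =
    (xE p * uE p ^ _ * xE p * uE p ^ _ * xE p).1 * (uE p ^ 4).1
  rw [eh, uE_pow]
  ext i j
  fin_cases i <;> fin_cases j <;> simp [uE, Matrix.mul_apply, Fin.sum_univ_two] <;>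
    field_simp <;> ring

end Elements

/-- Every representation of `SL₂(p)`, `p ≥ 7`, has an element fixing a sixth of the module. -/
theorem hasLargeFix_SL2 {p : ℕ} [Fact p.Prime] (hp : 7 ≤ p) {K : Type*} [Field K] {V : Type*}
    [AddCommGroup V] [Module K V] [FiniteDimensional K V] (ρ : SL(2, ZMod p) →* Module.End K V) :
    HasLargeFix ρ := by
  have hz1 : wE p * wE p ≠ 1 := fun h => by
    have := congrArg (fun g : SL(2, ZMod p) => g.1 0 0) h
    simp only [wE_sq_val] at this
    simp at this
    exact natCast_ne_zero_of_lt (p := p) (n := 2) (by omega) (by omega) (by push_cast; linear_combination -this)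
  by_cases h2 : (2 : K) = 0
  · haveI := charP_of_natCast_eq_zero (K := K) Nat.prime_two (by exact_mod_cast h2)
    exact of_char_eq Nat.prime_two (by norm_num) ρ
      (haveI := Fact.mk Nat.prime_two; orderOf_eq_prime (by rw [pow_two, wE_sq_sq]) hz1)
  by_cases h3 : (3 : K) = 0
  · haveI := charP_of_natCast_eq_zero (K := K) Nat.prime_three (by exact_mod_cast h3)
    exact of_char_eq Nat.prime_three (by norm_num) ρ
      (haveI := Fact.mk Nat.prime_three; orderOf_eq_prime xE_pow_three xE_ne_one)
  by_cases hpK : (p : K) = 0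
  · haveI := charP_of_natCast_eq_zero (K := K) (Fact.out : p.Prime) hpK
    haveI : CharP (AlgebraicClosure K) p :=
      charP_of_injective_algebraMap (algebraMap K (AlgebraicClosure K)).injective p
    let ρA : SL(2, ZMod p) →* Module.End (AlgebraicClosure K) (AlgebraicClosure K ⊗[K] V) :=
      (Module.End.baseChangeHom K (AlgebraicClosure K) V).toMonoidHom.comp ρ
    obtain ⟨r, hr⟩ := IsAlgClosed.exists_pow_nat_eq (-3 : AlgebraicClosure K) (n := 2) two_pos
    have h2' : (2 : AlgebraicClosure K) ≠ 0 := fun h => h2 ((algebraMap K (AlgebraicClosure K)).injective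
      (by rw [map_ofNat, map_zero, h]))
    have hω : ((-1 + r) / 2) ^ 2 + (-1 + r) / 2 + 1 = (0 : AlgebraicClosure K) := by
      field_simp
      linear_combination hr
    have h := finrank_le_fix hp hω ρA
    have ef : ∀ g, finrank (AlgebraicClosure K) (fixSub (ρA g)) = finrank K (fixSub (ρ g)) :=
      fun g => finrank_fixSub_baseChange (AlgebraicClosure K) (ρ g)
    rw [ef, ef, Module.finrank_baseChange] at h
    by_cases hx : finrank K V ≤ 6 * finrank K (fixSub (ρ (xE p)))
    · exact ⟨_, xE_ne_one, hx⟩
    · exact ⟨_, uE_ne_one, by omega⟩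
  obtain ⟨b, c, hh⟩ := exists_six_hop (p := p) hp
  exact ⟨_, xE_ne_one, finrank_le_six h2 h3 (Fact.out : p.Prime) hp hpK ρ b c xE_mul_three rfl wE_sq_sq
    wE_sq_comm_xE xE_mul_wE uE_pow_prime rfl hh⟩

end Cfsg.Agent.FixSixth
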