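import Cfsg.Agent.Lib.FixSixth.Central
import Cfsg.Agent.Lib.FixSixth.Main
import Cfsg.Agent.Lib.OddOrderTheorem.Basic
import Cfsg.Agent.Lib.GLOrder.Torus
import Cfsg.Agent.Lib.SLTwoMult.Basic

/-!
# A minimal cover of `SL₂(p)` by a group of odd order (S5720; owner helper90)

`hasLargeFix_of_cover` : if `π : L → SL₂(p)`, `p ≥ 7`, is onto, its kernel has odd order and no proper subgroup
maps onto, then every representation of `L` has an element with a large fixed space.
-/

set_option autoImplicit false
set_option linter.unusedSectionVars false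
set_option linter.style.haveILetI false

open Matrix Subgroup
open scoped MatrixGroups

namespace Cfsg.Agent.FixSixth

variable {p : ℕ} [Fact p.Prime]

/-- The Sylow subgroups of `SL₂(p)` at odd primes are cyclic. -/
theorem isCyclic_sylow_SL2 {r : ℕ} [hr : Fact r.Prime] (hr2 : r ≠ 2) (R : Sylow r SL(2, ZMod p)) :
    IsCyclic (R : Subgroup SL(2, ZMod p)) := by
  have hpp : p.Prime := Fact.out
  by_cases hrp : r = p
  · subst hrp
    have hd : Nat.card SL(2, ZMod r) = r * ((r + 1) * (r - 1)) := by
      rw [GLOrder.card_SL_two', Nat.card_zmod, mul_assoc]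
    have hn : ¬ r ∣ (r + 1) * (r - 1) := fun h => by
      have h2 := hr.out.two_le
      rcases hr.out.dvd_mul.1 h with h | h
      · rw [Nat.dvd_add_right (dvd_refl r), Nat.dvd_one] at h; omega
      · have := Nat.le_of_dvd (by omega) h; omega
    have h2 := hr.out.two_le
    have hfac : (Nat.card SL(2, ZMod r)).factorization r = 1 := by
      rw [hd, Nat.factorization_mul hr.out.ne_zero (mul_ne_zero (by omega) (by omega)), Finsupp.add_apply,
        Nat.factorization_eq_zero_of_not_dvd hn, hr.out.factorization_self]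
    exact isCyclic_of_prime_card (p := r) (by rw [R.card_eq_multiplicity, hfac, pow_one])
  · exact GLOrder.isCyclic_sylow_SL_two (F := ZMod p) p r hr2 hrp R

universe u

variable {K : Type*} [Field K] {V : Type*} [AddCommGroup V] [Module K V] [FiniteDimensional K V]
  {L : Type u} [Group L] [Finite L]

/-- A central element of the kernel of order `r` is trivial. -/
theorem eq_one_of_central (π : L →* SL(2, ZMod p)) (hπ : Function.Surjective π) (hperf : commutator L = ⊤)
    {r : ℕ} [hr : Fact r.Prime] (hr2 : r ≠ 2)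
    (hcen : ∀ w ∈ π.ker, (∃ k, w ^ r ^ k = 1) → w ∈ center L)
    {z : L} (hz : z ∈ π.ker) (hzr : z ^ r = 1) : z = 1 := by
  have hzp : IsPGroup r (zpowers z) := fun w => ⟨1, by
    obtain ⟨_, n, rfl⟩ := w
    refine Subtype.ext ?_
    show (z ^ n) ^ r ^ 1 = 1
    rw [pow_one, ← zpow_natCast, ← _root_.zpow_mul, mul_comm, _root_.zpow_mul, zpow_natCast, hzr,
      _root_.one_zpow]⟩
  obtain ⟨P, hP⟩ := hzp.exists_le_sylow
  haveI : IsCyclic (P.mapSurjective hπ : Subgroup SL(2, ZMod p)) := isCyclic_sylow_SL2 hr2 _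
  let f : (P : Subgroup L) →* (P.mapSurjective hπ : Subgroup SL(2, ZMod p)) :=
    (π.comp (P : Subgroup L).subtype).codRestrict _ fun x => by
      rw [P.coe_mapSurjective hπ]; exact mem_map_of_mem _ x.2
  have hker : f.ker ≤ center (P : Subgroup L) := fun x hx => by
    have hx' : (x : L) ∈ π.ker := congrArg Subtype.val hx
    obtain ⟨k, hk⟩ := P.2 x
    have hc := hcen _ hx' ⟨k, congrArg Subtype.val hk⟩
    exact mem_center_iff.2 fun y => Subtype.ext (mem_center_iff.1 hc y)
  have hcom : commutator (P : Subgroup L) = ⊥ := by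
    rw [_root_.commutator_def, Subgroup.commutator_eq_bot_iff_le_centralizer]
    intro a _
    exact mem_centralizer_iff.2 fun b _ =>
      (MonoidHom.isMulCommutative_of_isCyclic_of_ker_le_center f hker).is_comm.comm b a
  have hzP : z ∈ (P : Subgroup L) := hP (mem_zpowers z)
  have h := SLTwoMult.mem_commutator_sylow P ⟨z, hzP⟩ (hcen z hz ⟨1, by rw [pow_one, hzr]⟩)
    (hperf.ge (mem_top _)) (Subtype.ext hzr)
  rw [hcom, Subgroup.mem_bot] at h
  exact congrArg Subtype.val h

/-- A homomorphic lift of a tetrahedral subgroup. -/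
theorem exists_tetra_lift (hp : 5 ≤ p) (π : L →* SL(2, ZMod p)) (hπ : Function.Surjective π)
    (hN : Odd (Nat.card π.ker)) (h3 : ¬ 3 ∣ Nat.card π.ker) :
    ∃ T : Tetra L, T.x ≠ 1 ∧ T.z ≠ 1 ∧ π T.i ∉ center SL(2, ZMod p) := by
  obtain ⟨S, hSx, hSz, hSi⟩ := exists_tetra (p := p) hp
  obtain ⟨k, hk⟩ := S.card_gen hSx
  set W := S.gen.comap π with hW
  set f : W →* S.gen := π.subgroupComap S.gen with hf
  have hfs : Function.Surjective f := π.subgroupComap_surjective_of_surjective _ hπ
  have hle : π.ker ≤ W := fun x hx => by rw [hW, mem_comap, hx]; exact one_mem _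
  have hkc : Nat.card f.ker = Nat.card π.ker := by
    refine (Nat.card_congr (Equiv.mk (fun x => ⟨⟨x.1, hle x.2⟩, Subtype.ext x.2⟩)
      (fun x => ⟨x.1.1, congrArg Subtype.val x.2⟩) (fun x => rfl) (fun x => rfl))).symm
  have hidx : f.ker.index = Nat.card S.gen := by
    rw [Subgroup.index_ker, MonoidHom.range_eq_top.2 hfs, Subgroup.card_top]
  have hco : (Nat.card f.ker).Coprime f.ker.index := by
    rw [hidx, hkc, hk]
    exact Nat.Coprime.mul_right (Nat.Coprime.pow_right k hN.coprime_two_right)
      ((Nat.prime_three.coprime_iff_not_dvd.2 h3).symm)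
  obtain ⟨Q, hQ⟩ := exists_right_complement'_of_coprime hco
  have hinj : Function.Injective (f.comp Q.subtype) := by
    rw [injective_iff_map_eq_one]
    intro q hq
    exact Subtype.ext (Subgroup.mem_bot.1 (hQ.disjoint.le_bot ⟨hq, q.2⟩))
  have hbij : Function.Bijective (f.comp Q.subtype) :=
    (Nat.bijective_iff_injective_and_card _).2 ⟨hinj, by rw [← hidx, hQ.symm.index_eq_card]⟩
  let e : Q ≃* S.gen := MulEquiv.ofBijective _ hbij
  let s : S.gen →* L := W.subtype.comp (Q.subtype.comp e.symm.toMonoidHom)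
  have hs : ∀ y, π (s y) = y := fun y => congrArg Subtype.val (e.apply_symm_apply y)
  have hrel : ∀ y y' : S.gen, (y : SL(2, ZMod p)) = y' → s y = s y' := fun y y' h => congrArg s (Subtype.ext h)
  obtain ⟨mi, mj, mx, mz⟩ := S.mem_gen
  refine ⟨⟨s ⟨S.i, mi⟩, s ⟨S.j, mj⟩, s ⟨S.x, mx⟩, s ⟨S.z, mz⟩, ?_, ?_, ?_, ?_, ?_, ?_, ?_, ?_⟩,
    fun h => ?_, fun h => ?_, by rw [hs]; exact hSi⟩
  · rw [← map_mul]; exact hrel _ _ S.hii
  · rw [← map_mul]; exact hrel _ _ S.hjj
  · rw [← map_mul, ← map_mul, ← map_mul]; exact hrel _ _ S.hji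
  · rw [← map_mul, ← map_one s]; exact hrel _ _ S.hzz
  · rw [← map_mul, ← map_mul]; exact hrel _ _ S.hzx
  · rw [← map_mul, ← map_mul, ← map_one s]; exact hrel _ _ S.hx
  · rw [← map_mul, ← map_mul]; exact hrel _ _ S.hxi
  · rw [← map_mul, ← map_mul, ← map_mul]; exact hrel _ _ S.hxj
  · exact hSx (by have := congrArg π h; rwa [hs, map_one] at this)
  · exact hSz (by have := congrArg π h; rwa [hs, map_one] at this)

/-- Every representation of a minimal cover has an element with a large fixed space. -/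
theorem hasLargeFix_of_cover (hp : 7 ≤ p) (π : L →* SL(2, ZMod p)) (hπ : Function.Surjective π)
    (hN : Odd (Nat.card π.ker)) (hmin : ∀ M : Subgroup L, M.map π = ⊤ → M = ⊤)
    (ρ : L →* Module.End K V) : HasLargeFix ρ := by
  by_contra hno
  haveI : Group.IsSolvable π.ker := OddOrderTheorem.solvable hN
  have hperf : commutator L = ⊤ := hmin _ (by
    rw [_root_.commutator_def, Subgroup.map_commutator, map_top_of_surjective π hπ, ← _root_.commutator_def,
      Law.commutator_sl2_eq_top (by rw [ZMod.card]; omega)])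
  have hodd : ∀ r : ℕ, r ∣ Nat.card π.ker → r ≠ 2 := fun r hr e =>
    (Nat.not_even_iff_odd.2 hN) (even_iff_two_dvd.2 (e ▸ hr))
  -- the kernel has no element of order three
  have h3 : ¬ 3 ∣ Nat.card π.ker := by
    intro hd
    haveI := Fact.mk Nat.prime_three
    obtain ⟨P⟩ : Nonempty (Sylow 3 π.ker) := inferInstance
    set P' : Subgroup L := (P : Subgroup π.ker).map π.ker.subtype with hP'
    haveI hn : P'.Normal := by
      rw [← Subgroup.normalizer_eq_top_iff]
      refine hmin _ ?_
      have h := congrArg (Subgroup.map π) (Sylow.normalizer_sup_eq_top P)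
      rw [Subgroup.map_sup, map_top_of_surjective π hπ,
        (Subgroup.map_eq_bot_iff (f := π) π.ker).2 le_rfl, sup_bot_eq] at h
      exact h
    obtain ⟨Q, hQ⟩ : ∃ Q : Sylow 3 L, P' ≤ Q := (P.2.map π.ker.subtype).exists_le_sylow
    haveI := isCyclic_sylow hno (r := 3) (by norm_num) (by norm_num) Q
    haveI : IsCyclic P' :=
      isCyclic_of_surjective _ (Subgroup.subgroupOfEquivOfLe hQ).surjective
    have habel : ∀ a b : MulAut P', a * b = b * a := fun a b => by
      obtain ⟨m, hm⟩ := MonoidHom.map_cyclic (a : P' ≃* P').toMonoidHom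
      refine MulEquiv.ext fun g => ?_
      simp only [MulEquiv.coe_toMonoidHom] at hm
      rw [MulAut.mul_apply, MulAut.mul_apply, hm, hm, map_zpow]
    have htriv : ∀ (g : L) (w : P'), MulAut.conjNormal g w = w := by
      have hle : commutator L ≤ (MulAut.conjNormal : L →* MulAut P').ker := by
        rw [_root_.commutator_def, Subgroup.commutator_le]
        intro a _ b _
        rw [MonoidHom.mem_ker, map_commutatorElement, commutatorElement_eq_one_iff_mul_comm]
        exact habel _ _
      intro g w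
      have := hle (hperf.ge (mem_top g))
      rw [MonoidHom.mem_ker] at this
      rw [this, MulAut.one_apply]
    have hcen : ∀ w ∈ π.ker, (∃ k, w ^ 3 ^ k = 1) → w ∈ center L := by
      rintro w hw ⟨k, hk⟩
      have hwP : w ∈ P' := by
        obtain ⟨R, hR⟩ := (show IsPGroup 3 (zpowers (⟨w, hw⟩ : π.ker)) from fun y => ⟨k, by
          obtain ⟨_, n, rfl⟩ := y
          refine Subtype.ext (Subtype.ext ?_)
          show (w ^ n) ^ 3 ^ k = 1
          rw [← zpow_natCast, ← _root_.zpow_mul, mul_comm, _root_.zpow_mul, zpow_natCast, hk,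
            _root_.one_zpow]⟩).exists_le_sylow
        obtain ⟨n, rfl⟩ := MulAction.exists_smul_eq π.ker R P
        have h1 : n * ⟨w, hw⟩ * n⁻¹ ∈ ((n • R : Sylow 3 π.ker) : Subgroup π.ker) := by
          rw [Sylow.coe_subgroup_smul]
          exact Subgroup.smul_mem_pointwise_smul _ (MulAut.conj n) _ (hR (mem_zpowers _))
        have h2 := hn.conj_mem _ (mem_map_of_mem π.ker.subtype h1) (n : L)⁻¹
        simpa [mul_assoc] using h2
      refine mem_center_iff.2 fun g => ?_
      have := congrArg Subtype.val (htriv g ⟨w, hwP⟩)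
      rw [MulAut.conjNormal_apply] at this
      exact mul_inv_eq_iff_eq_mul.1 this
    obtain ⟨w, hw⟩ := exists_prime_orderOf_dvd_card' 3 hd
    have h1 : (w : L) ^ 3 = 1 := by rw [← SubgroupClass.coe_pow, ← hw, pow_orderOf_eq_one]; rfl
    have h2 := eq_one_of_central π hπ hperf (r := 3) (by norm_num) hcen w.2 h1
    rw [show w = 1 from Subtype.ext h2, orderOf_one] at hw
    omega
  obtain ⟨T, hTx, hTz, hTi⟩ := exists_tetra_lift (by omega) π hπ hN h3
  have hcomm := commute_of_not hno T hTx hTz π.ker hN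
  -- the kernel is central
  set C := centralizer (π.ker : Set L) with hC
  have hTiC : T.i ∈ C := mem_centralizer_iff.2 fun g hg => (hcomm g hg).symm
  haveI : C.Normal := Subgroup.normal_centralizer
  have hCtop : C = ⊤ := by
    haveI : (C.map π).Normal := Subgroup.Normal.map inferInstance π hπ
    exact hmin _ (normal_eq_top (by omega) (mem_map_of_mem π hTiC) hTi)
  have hker : π.ker ≤ center L := fun w hw =>
    mem_center_iff.2 fun g => (mem_centralizer_iff.1 (hCtop.ge (mem_top g)) w hw).symm
  have hinj : Function.Injective π := by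
    rw [← MonoidHom.ker_eq_bot_iff]
    by_contra hne
    obtain ⟨r, hr, hd⟩ := Nat.exists_prime_and_dvd (mt Subgroup.card_eq_one.1 hne)
    haveI := Fact.mk hr
    obtain ⟨w, hw⟩ := exists_prime_orderOf_dvd_card' r hd
    have h1 : (w : L) ^ r = 1 := by rw [← SubgroupClass.coe_pow, ← hw, pow_orderOf_eq_one]; rfl
    have h2 := eq_one_of_central π hπ hperf (hodd r hd) (fun x hx _ => hker hx) w.2 h1
    rw [show w = 1 from Subtype.ext h2, orderOf_one] at hw
    exact hr.ne_one hw.symm
  let e := MulEquiv.ofBijective π ⟨hinj, hπ⟩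
  exact hno (HasLargeFix.of_comp (ρ := ρ) (f := e.symm.toMonoidHom) e.symm.injective
    (hasLargeFix_SL2 hp _))

end Cfsg.Agent.FixSixth
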