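import Cfsg.Agent.Lib.FixSixth.Weights

/-!
# A vector fixed by `u` generates a symmetric power or contains one (S5720; owner helper90)

`exists_emb` : for `v ≠ 0` fixed by `u` of weight `k ≡ d`, either `symPow p K (p - 1 - d)` embeds, or
`symPow p K d` embeds with its fixed vector going to `v`.
-/

set_option autoImplicit false
set_option linter.unusedSectionVars false

open Module Matrix
open scoped MatrixGroups

namespace Cfsg.Agent.FixSixth

open FixedHalf (fixSub mem_fixSub)

variable {p : ℕ} [Fact p.Prime] {K : Type*} [Field K] [CharP K p]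
  {V : Type*} [AddCommGroup V] [Module K V]

/-- An embedding of `symPow p K d`. -/
structure IsEmb (ρ : SL(2, ZMod p) →* Module.End K V) (d : ℕ) (φ : (Plane p → K) →ₗ[K] V) : Prop where
  comm : ∀ g, ∀ f ∈ symPow p K d, φ (funRep K g f) = ρ g (φ f)
  inj : ∀ f ∈ symPow p K d, φ f = 0 → f = 0

variable {ρ : SL(2, ZMod p) →* Module.End K V}

section Emb

variable {d : ℕ} {φ : (Plane p → K) →ₗ[K] V}

theorem isEmb_of_ne_zero (hd : d < p) (hcomm : ∀ g, ∀ f ∈ symPow p K d, φ (funRep K g f) = ρ g (φ f))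
    {f₀ : Plane p → K} (hf₀ : f₀ ∈ symPow p K d) (hne : φ f₀ ≠ 0) : IsEmb ρ d φ := by
  refine ⟨hcomm, fun f hf h0 => by_contra fun hf0 => hne ?_⟩
  have hle := mem_of_invariant (K := K) hd (N := symPow p K d ⊓ LinearMap.ker φ)
    (fun g f hf => ⟨funRep_mem K g hf.1, LinearMap.mem_ker.2 (by rw [hcomm g f hf.1, hf.2, map_zero])⟩)
    inf_le_left (fun h => hf0 ((Submodule.mem_bot K).1 (h ▸ (⟨hf, h0⟩ : f ∈ symPow p K d ⊓ LinearMap.ker φ))))
  exact (hle hf₀).2

theorem IsEmb.isInv (hE : IsEmb ρ d φ) : IsInv ρ ((symPow p K d).map φ) := by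
  rintro g _ ⟨f, hf, rfl⟩
  exact ⟨funRep K g f, funRep_mem K g hf, hE.comm g f hf⟩

theorem lowA_mem {f : Plane p → K} (hf : f ∈ symPow p K d) : lowA f ∈ symPow p K d :=
  sub_mem (funRep_mem K _ hf) hf

theorem lowA_pow_mem {f : Plane p → K} (hf : f ∈ symPow p K d) (j : ℕ) : (lowA ^ j) f ∈ symPow p K d := by
  induction j with
  | zero => exact hf
  | succ j ih => rw [pow_succ', Module.End.mul_apply]; exact lowA_mem ih

theorem IsEmb.aOp_pow (hE : IsEmb ρ d φ) {f : Plane p → K} (hf : f ∈ symPow p K d) (j : ℕ) :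
    (aOp ρ ^ j) (φ f) = φ ((lowA ^ j) f) := by
  induction j with
  | zero => simp
  | succ j ih =>
    have hl : ∀ w : Plane p → K, lowA w = funRep K (uE p) w - w := fun _ => rfl
    rw [pow_succ', Module.End.mul_apply, ih, pow_succ', Module.End.mul_apply, hl, map_sub,
      hE.comm _ _ (lowA_pow_mem hf j), aOp_apply]

theorem IsEmb.finrank_map (hE : IsEmb ρ d φ) (hd : d < p) : finrank K ((symPow p K d).map φ) = d + 1 := by
  have hi : Function.Injective (φ.comp (symPow p K d).subtype) := by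
    rw [← LinearMap.ker_eq_bot, LinearMap.ker_eq_bot']
    intro f hf
    exact Subtype.ext (hE.inj _ f.2 hf)
  have e := LinearMap.finrank_range_of_inj hi
  rw [LinearMap.range_comp, Submodule.range_subtype] at e
  rw [e, finrank_symPow hd]

theorem IsEmb.isBlock (hE : IsEmb ρ d φ) (hd : d < p) :
    IsBlock ρ ((symPow p K d).map φ) (φ (mon K d d)) (-(d : ℤ)) d := by
  refine ⟨hE.isInv, Submodule.mem_map_of_mem (mon_mem K le_rfl), fun t => ?_, hE.finrank_map hd, ?_⟩
  · rw [← hE.comm _ _ (mon_mem K le_rfl), funRep_hE_mon le_rfl, map_smul, chi]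
    congr 3
    ring
  · rw [hE.aOp_pow (mon_mem K le_rfl), lowA_pow_top le_rfl, map_smul]
    exact smul_ne_zero (factorial_ne_zero hd) fun h => mon_ne_zero hd (Nat.zero_le d)
      (hE.inj _ (mon_mem K (Nat.zero_le d)) h)

theorem IsEmb.card_fixIdx_le [FiniteDimensional K V] (hE : IsEmb ρ d φ) (hd : d < p) {ω : K}
    (hω : ω ^ 2 + ω + 1 = 0) (h3 : (3 : K) ≠ 0) :
    (fixIdx d).card ≤ finrank K ↥(fixSub (ρ (xE p)) ⊓ (symPow p K d).map φ) := by
  refine (card_fixIdx_le_finrank (p := p) hd hω h3).trans ?_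
  refine LinearMap.finrank_le_finrank_of_injective
    (f := (φ.comp (fixSub (funRep K (xE p)) ⊓ symPow p K d).subtype).codRestrict _ fun f => ?_) fun a b h => ?_
  · exact ⟨mem_fixSub.2 (by
      show ρ (xE p) (φ f.1) = φ f.1
      rw [← hE.comm _ _ f.2.2, mem_fixSub.1 f.2.1]), Submodule.mem_map_of_mem f.2.2⟩
  · refine Subtype.ext (sub_eq_zero.1 (hE.inj _ (sub_mem a.2.2 b.2.2) ?_))
    rw [map_sub, sub_eq_zero]
    exact congrArg Subtype.val h

end Emb

/-- The point of the plane with the given label. -/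
def pt : Option (ZMod p) → Plane p
  | none => ![1, 0]
  | some j => ![j, 1]

theorem exists_smul_e1 {c : Plane p} (hc : c ≠ 0) : ∃ g : SL(2, ZMod p), g • (pt (none : Option (ZMod p))) = c := by
  by_cases h0 : c 0 = 0
  · have h1 : c 1 ≠ 0 := fun h => hc (by ext i; fin_cases i <;> assumption)
    refine ⟨_, (smul_plane ⟨!![0, -(c 1)⁻¹; c 1, 0], by simp [Matrix.det_fin_two_of, h1]⟩ _).trans ?_⟩
    ext i; fin_cases i <;> simp [pt, h0]
  · refine ⟨_, (smul_plane ⟨!![c 0, 0; c 1, (c 0)⁻¹], by simp [Matrix.det_fin_two_of, h0]⟩ _).trans ?_⟩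
    ext i; fin_cases i <;> simp [pt]

theorem smul_e1_ne_zero (g : SL(2, ZMod p)) : g • (pt (none : Option (ZMod p))) ≠ 0 := by
  intro h
  have h1 := congrArg (fun c => g⁻¹ • c) h
  simp only [inv_smul_smul, smul_zero] at h1
  exact one_ne_zero (congrFun h1 0)

open Classical in
/-- The orbit of a vector fixed by `u`, labelled by the plane. -/
noncomputable def orb (ρ : SL(2, ZMod p) →* Module.End K V) (v : V) (c : Plane p) : V :=
  if h : ∃ g : SL(2, ZMod p), g • (pt (none : Option (ZMod p))) = c then ρ h.choose v else 0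

theorem orb_zero (v : V) : orb ρ v 0 = 0 := by
  rw [orb, dif_neg]
  rintro ⟨g, hg⟩
  exact smul_e1_ne_zero g hg

section Orbit

variable {v : V} {k : ℤ} (hu : ρ (uE p) v = v) (hw : IsWt ρ v k)
include hu

theorem orb_smul_e1 (g : SL(2, ZMod p)) : orb ρ v (g • pt none) = ρ g v := by
  have hex : ∃ g' : SL(2, ZMod p), g' • (pt (none : Option (ZMod p))) = g • pt none := ⟨g, rfl⟩
  rw [orb, dif_pos hex]
  set m := g⁻¹ * hex.choose with hm
  have hme : m • (pt (none : Option (ZMod p))) = pt none := by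
    rw [hm, SemigroupAction.mul_smul, hex.choose_spec, inv_smul_smul]
  rw [smul_plane] at hme
  have h00 : m.1 0 0 = 1 := by have := congrFun hme 0; simpa [pt] using this
  have h10 : m.1 1 0 = 0 := by have := congrFun hme 1; simpa [pt] using this
  have h11 : m.1 1 1 = 1 := by
    have := m.2
    rw [Matrix.det_fin_two, h00, h10, one_mul, mul_zero, sub_zero] at this
    exact this
  have hmu : m = (uE p) ^ (-(m.1 0 1)).val := by
    refine Subtype.ext ?_
    rw [uE_pow, ZMod.natCast_zmod_val]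
    ext i j
    fin_cases i <;> fin_cases j <;> simp [h00, h10, h11]
  rw [show hex.choose = g * m by rw [hm, mul_inv_cancel_left], app_mul, hmu, map_pow]
  rw [app_pow_of_fix _ hu]

theorem orb_smul (g : SL(2, ZMod p)) (c : Plane p) : orb ρ v (g • c) = ρ g (orb ρ v c) := by
  by_cases hc : c = 0
  · rw [hc, smul_zero, orb_zero, map_zero]
  · obtain ⟨g', rfl⟩ := exists_smul_e1 hc
    rw [← SemigroupAction.mul_smul, orb_smul_e1 hu, orb_smul_e1 hu, app_mul]

include hw

theorem orb_scale (t : (ZMod p)ˣ) (c : Plane p) :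
    orb ρ v ((t : ZMod p) • c) = ((chi p K t ^ k : Kˣ) : K) • orb ρ v c := by
  by_cases hc : c = 0
  · rw [hc, smul_zero, orb_zero, smul_zero]
  · obtain ⟨g, rfl⟩ := exists_smul_e1 hc
    have e : (t : ZMod p) • g • (pt (none : Option (ZMod p))) = (g * hE p t) • pt none := by
      rw [SemigroupAction.mul_smul, show hE p t • (pt (none : Option (ZMod p))) = (t : ZMod p) • pt none by
        rw [smul_plane]; ext i; fin_cases i <;> simp [pt, hE, -Units.val_inv_eq_inv_val]]
      rw [smul_plane, smul_plane g]; ext i; fin_cases i <;> simp <;> ring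
    rw [e, orb_smul_e1 hu, orb_smul_e1 hu, app_mul, hw t, map_smul]

end Orbit

/-- The nonzero vectors as multiples of the labelled points. -/
theorem bij_pt : Set.BijOn (fun x : (ZMod p)ˣ × Option (ZMod p) => (x.1 : ZMod p) • pt x.2) Set.univ {0}ᶜ := by
  refine ⟨fun x _ => ?_, ?_, ?_⟩
  · simp only [Set.mem_compl_iff, Set.mem_singleton_iff, smul_eq_zero, not_or]
    exact ⟨x.1.ne_zero, fun h => by
      rcases x with ⟨t, _ | j⟩
      · exact one_ne_zero (congrFun h 0)
      · exact one_ne_zero (congrFun h 1)⟩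
  · rintro ⟨t, o⟩ - ⟨t', o'⟩ - h
    have h0 := congrFun h 0
    have h1 := congrFun h 1
    rcases o with _ | j <;> rcases o' with _ | j' <;> simp [pt] at h0 h1 ⊢
    · exact Units.ext h0
    · exact t'.ne_zero h1.symm
    · have e : t = t' := Units.ext h1
      subst e
      exact ⟨rfl, mul_left_cancel₀ t.ne_zero h0⟩
  · intro c hc
    simp only [Set.mem_compl_iff, Set.mem_singleton_iff] at hc
    by_cases h1 : c 1 = 0
    · have h0 : c 0 ≠ 0 := fun h => hc (by ext i; fin_cases i <;> assumption)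
      exact ⟨(Units.mk0 _ h0, none), trivial, by ext i; fin_cases i <;> simp [pt, h1]⟩
    · refine ⟨(Units.mk0 _ h1, some ((c 1)⁻¹ * c 0)), trivial, ?_⟩
      ext i; fin_cases i <;> simp [pt, h1]

open Classical in
theorem sum_plane {A : Type*} [AddCommMonoid A] (F : Plane p → A) :
    ∑ c, F c = F 0 + ∑ x : (ZMod p)ˣ × Option (ZMod p), F ((x.1 : ZMod p) • pt x.2) := by
  rw [← Finset.add_sum_erase _ _ (Finset.mem_univ (0 : Plane p))]
  congr 1
  refine (Finset.sum_nbij (fun x : (ZMod p)ˣ × Option (ZMod p) => (x.1 : ZMod p) • pt x.2) ?_ ?_ ?_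
    fun _ _ => rfl).symm
  · intro x _
    exact Finset.mem_erase.2 ⟨bij_pt.mapsTo (Set.mem_univ x), Finset.mem_univ _⟩
  · intro x _ y _ h
    exact bij_pt.injOn (Set.mem_univ x) (Set.mem_univ y) h
  · intro c hc
    obtain ⟨x, -, hx⟩ := bij_pt.surjOn (Finset.mem_erase.1 hc).1
    exact ⟨x, by simp, hx⟩

theorem mon_scale {e i : ℕ} (hi : i ≤ e) (t : (ZMod p)ˣ) (c : Plane p) :
    mon K e i ((t : ZMod p) • c) = ((chi p K t ^ (e : ℤ) : Kˣ) : K) * mon K e i c := by
  rw [zpow_natCast, Units.val_pow_eq_pow_val, chi_val, mon_apply, mon_apply]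
  simp only [Pi.smul_apply, smul_eq_mul, map_mul, mul_pow]
  rw [show ci K (t : ZMod p) ^ e = ci K (t : ZMod p) ^ i * ci K (t : ZMod p) ^ (e - i) by
    rw [← pow_add]; congr 1; omega]
  ring

/-- The orbit in the function representation. -/
theorem orb_funRep {d : ℕ} (c c' : Plane p) (hc : c ≠ 0) :
    orb (funRep K) (mon (p := p) K d 0) c c' = (ci K (c 0) * ci K (c' 1) - ci K (c 1) * ci K (c' 0)) ^ d := by
  obtain ⟨g, rfl⟩ := exists_smul_e1 hc
  rw [orb_smul_e1 funRep_uE_mon_zero, funRep_apply, mon_apply, inv_smul_plane, smul_plane]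
  simp [pt]

open Classical in
theorem sum_mon_orb_funRep {d e i : ℕ} (hde : d + e = p - 1) (hd : d < p - 1) (hi : i ≤ e) :
    ∑ c : Plane p, mon K e i c • orb (funRep K) (mon (p := p) K d 0) c = 0 := by
  funext c'
  rw [Finset.sum_apply]
  have hterm : ∀ c : Plane p, (mon K e i c • orb (funRep K) (mon (p := p) K d 0) c) c'
      = ∑ l ∈ Finset.range (d + 1), (((-1 : K)) ^ (d - l) * (d.choose l : K) * ci K (c' 1) ^ l *
          ci K (c' 0) ^ (d - l)) * ci K (c 0 ^ (i + l) * c 1 ^ (e - i + (d - l))) := by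
    intro c
    rw [Pi.smul_apply, smul_eq_mul]
    by_cases hc : c = 0
    · subst hc
      rw [orb_zero, Pi.zero_apply, mul_zero]
      refine (Finset.sum_eq_zero fun l hl => ?_).symm
      rw [Finset.mem_range] at hl
      rcases Nat.eq_zero_or_pos (i + l) with h | h
      · simp [h]; right; intro; omega
      · simp; right; left; intro; omega
    · rw [orb_funRep c c' hc, sub_eq_add_neg, add_pow, Finset.mul_sum, mon_apply]
      refine Finset.sum_congr rfl fun l hl => ?_
      rw [map_mul, map_pow, map_pow, pow_add, pow_add, mul_pow, neg_pow, mul_pow]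
      ring
  rw [Finset.sum_congr rfl fun c _ => hterm c, Finset.sum_comm, Pi.zero_apply]
  refine Finset.sum_eq_zero fun l hl => ?_
  rw [Finset.mem_range] at hl
  rw [← Finset.mul_sum, ← map_sum]
  have h0 : ∑ c : Plane p, c 0 ^ (i + l) * c 1 ^ (e - i + (d - l)) = (0 : ZMod p) := by
    rw [← Equiv.sum_comp (finTwoArrowEquiv (ZMod p)).symm, Fintype.sum_prod_type]
    simp only [finTwoArrowEquiv_symm_apply, cons_val_zero, cons_val_one, cons_val_fin_one]
    rw [← Finset.sum_mul_sum]
    rcases lt_or_ge (i + l) (p - 1) with h | h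
    · rw [FiniteField.sum_pow_lt_card_sub_one (ZMod p) _ (by rwa [ZMod.card]), zero_mul]
    · rw [FiniteField.sum_pow_lt_card_sub_one (ZMod p) (e - i + (d - l)) (by rw [ZMod.card]; omega), mul_zero]
  rw [h0, map_zero, mul_zero]

open Classical in
/-- A homogeneous sum over the plane reduces to the labelled points. -/
theorem sum_mon_smul_eq {A : Type*} [AddCommGroup A] [Module K A] {d e i : ℕ} (hi : i ≤ e)
    (hed : (e : ℤ) + d = ((p - 1 : ℕ) : ℤ)) (F : Plane p → A) (h0 : F 0 = 0)
    (hF : ∀ (t : (ZMod p)ˣ) o, F ((t : ZMod p) • pt o) = ((chi p K t ^ (d : ℤ) : Kˣ) : K) • F (pt o)) :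
    ∑ c, mon K e i c • F c = -∑ o, mon K e i (pt o) • F (pt o) := by
  rw [sum_plane, h0, smul_zero, zero_add, Fintype.sum_prod_type, Finset.sum_comm, ← Finset.sum_neg_distrib]
  refine Finset.sum_congr rfl fun o _ => ?_
  have hall : ∀ t : (ZMod p)ˣ, mon K e i ((t : ZMod p) • pt o) • F ((t : ZMod p) • pt o) =
      mon K e i (pt o) • F (pt o) := fun t => by
    rw [hF, mon_scale hi, smul_smul]
    congr 1
    rw [mul_comm ((chi p K t ^ (e : ℤ) : Kˣ) : K), mul_assoc, ← Units.val_mul, ← _root_.zpow_add,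
      hed, zpow_natCast, chi_pow_card, Units.val_one, mul_one]
  rw [Finset.sum_congr rfl fun t _ => hall t, Finset.sum_const, Finset.card_univ, ZMod.card_units,
    ← Nat.cast_smul_eq_nsmul K, Nat.cast_sub (Fact.out : p.Prime).one_le, CharP.cast_eq_zero, Nat.cast_one,
    zero_sub, neg_one_smul]

theorem sum_single_smul {ι A : Type*} [Fintype ι] [DecidableEq ι] [AddCommGroup A] [Module K A] (o : ι) (F : ι → A) :
    ∑ o', (Pi.single o (1 : K) : ι → K) o' • F o' = F o := by
  rw [Finset.sum_eq_single o (fun o' _ h => by rw [Pi.single_eq_of_ne h, zero_smul])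
    (fun h => absurd (Finset.mem_univ o) h), Pi.single_eq_same, one_smul]

open Classical in
/-- The dichotomy. -/
theorem exists_emb {v : V} (hv : v ≠ 0) (hu : ρ (uE p) v = v) {k : ℤ} (hw : IsWt ρ v k) {d : ℕ}
    (hd : d < p - 1) (hdk : ((p - 1 : ℕ) : ℤ) ∣ k - d) :
    (∃ φ, IsEmb ρ (p - 1 - d) φ) ∨ ∃ φ, IsEmb ρ d φ ∧ φ (mon K d 0) = v := by
  set e := p - 1 - d with he
  have hp1 := (Fact.out : p.Prime).one_lt
  let Φ : (Plane p → K) →ₗ[K] V :=
    { toFun := fun f => ∑ c, f c • orb ρ v c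
      map_add' := fun f f' => by simp [add_smul, Finset.sum_add_distrib]
      map_smul' := fun a f => by simp [Finset.smul_sum, smul_smul] }
  have hΦ : ∀ g f, Φ (funRep K g f) = ρ g (Φ f) := fun g f => by
    show ∑ c, funRep K g f c • orb ρ v c = ρ g (∑ c, f c • orb ρ v c)
    rw [map_sum]
    refine Fintype.sum_equiv (MulAction.toPerm g⁻¹) _ _ fun c => ?_
    rw [funRep_apply, map_smul, MulAction.toPerm_apply, ← orb_smul hu, smul_inv_smul]
  by_cases hz : ∀ f ∈ symPow p K e, Φ f = 0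
  swap
  · push Not at hz
    obtain ⟨f, hf, hne⟩ := hz
    exact Or.inl ⟨Φ, isEmb_of_ne_zero (by omega) (fun g f _ => hΦ g f) hf hne⟩
  refine Or.inr ?_
  have hud : funRep K (uE p) (mon (p := p) K d 0) = mon K d 0 := funRep_uE_mon_zero
  have hwd : IsWt (funRep K) (mon (p := p) K d 0) (d : ℤ) := fun t => by
    rw [funRep_hE_mon (Nat.zero_le _)]
    simp [chi]
  have horbk : ∀ (t : (ZMod p)ˣ) o, orb ρ v ((t : ZMod p) • pt o) = ((chi p K t ^ (d : ℤ) : Kˣ) : K) • orb ρ v (pt o) :=
    fun t o => by rw [orb_scale hu hw, chi_zpow_of_dvd t hdk]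
  have horbd : ∀ (t : (ZMod p)ˣ) o, orb (funRep K) (mon (p := p) K d 0) ((t : ZMod p) • pt o) =
      ((chi p K t ^ (d : ℤ) : Kˣ) : K) • orb (funRep K) (mon (p := p) K d 0) (pt o) :=
    fun t o => orb_scale hud hwd t _
  let LΨ : (Option (ZMod p) → K) →ₗ[K] (Plane p → K) :=
    { toFun := fun a => ∑ o, a o • orb (funRep K) (mon (p := p) K d 0) (pt o)
      map_add' := fun a b => by simp [add_smul, Finset.sum_add_distrib]
      map_smul' := fun r a => by simp [Finset.smul_sum, smul_smul] }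
  let LΦ : (Option (ZMod p) → K) →ₗ[K] V :=
    { toFun := fun a => ∑ o, a o • orb ρ v (pt o)
      map_add' := fun a b => by simp [add_smul, Finset.sum_add_distrib]
      map_smul' := fun r a => by simp [Finset.smul_sum, smul_smul] }
  let R : Fin (e + 1) → (Option (ZMod p) → K) := fun i o => mon K e i (pt o)
  have hed : (e : ℤ) + d = ((p - 1 : ℕ) : ℤ) := by omega
  have hRΨ : ∀ i, LΨ (R i) = 0 := fun i => by
    have h := sum_mon_smul_eq (Nat.le_of_lt_succ i.2) hed _ (orb_zero _) horbd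
    rw [sum_mon_orb_funRep (by omega) hd (Nat.le_of_lt_succ i.2), eq_comm, neg_eq_zero] at h
    exact h
  have hRΦ : ∀ i, LΦ (R i) = 0 := fun i => by
    have h := sum_mon_smul_eq (Nat.le_of_lt_succ i.2) hed _ (orb_zero _) horbk
    have h0 : ∑ c, mon K e i c • orb ρ v c = 0 := hz _ (mon_mem K (Nat.le_of_lt_succ i.2))
    rw [h0, eq_comm, neg_eq_zero] at h
    exact h
  have hRli : LinearIndependent K R := by
    refine Fintype.linearIndependent_iff.2 fun a ha => coeff_eq_zero (p := p) (d := e) (by omega) ?_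
    funext c
    rw [Finset.sum_apply, Pi.zero_apply]
    simp only [Pi.smul_apply, smul_eq_mul]
    by_cases hc : c = 0
    · subst hc
      refine Finset.sum_eq_zero fun i _ => ?_
      rw [mon_apply]
      rcases Nat.eq_zero_or_pos (i : ℕ) with h | h
      · simp [h, show e ≠ 0 by omega]
      · simp [h.ne']
    · obtain ⟨⟨t, o⟩, -, rfl⟩ := bij_pt.surjOn hc
      have h := congrFun ha o
      simp only [Finset.sum_apply, Pi.smul_apply, smul_eq_mul, Pi.zero_apply, R] at h
      rw [← mul_zero ((chi p K t ^ (e : ℤ) : Kˣ) : K), ← h, Finset.mul_sum]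
      exact Finset.sum_congr rfl fun i _ => by rw [mon_scale (Nat.le_of_lt_succ i.2)]; ring
  have horb_mem : ∀ c, orb (funRep K) (mon (p := p) K d 0) c ∈ symPow p K d := fun c => by
    by_cases hc : c = 0
    · rw [hc, orb_zero]; exact zero_mem _
    · obtain ⟨g, rfl⟩ := exists_smul_e1 hc
      rw [orb_smul_e1 hud]; exact funRep_mem K g (mon_mem K (Nat.zero_le _))
  have hgen : ∀ c, c ≠ 0 → orb (funRep K) (mon (p := p) K d 0) c ∈ LinearMap.range LΨ := fun c hc => by
    obtain ⟨⟨t, o⟩, -, rfl⟩ := bij_pt.surjOn hc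
    rw [horbd]
    refine Submodule.smul_mem _ _ ⟨Pi.single o 1, ?_⟩
    show ∑ o', (Pi.single o (1 : K) : Option (ZMod p) → K) o' • _ = _
    rw [Finset.sum_eq_single o (fun o' _ h => by rw [Pi.single_eq_of_ne h, zero_smul])
      (fun h => absurd (Finset.mem_univ o) h), Pi.single_eq_same, one_smul]
  have hrangeinv : ∀ g, ∀ f ∈ LinearMap.range LΨ, funRep K g f ∈ LinearMap.range LΨ := by
    rintro g _ ⟨a, rfl⟩
    show funRep K g (∑ o, a o • _) ∈ _
    rw [map_sum]
    refine Submodule.sum_mem _ fun o _ => ?_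
    rw [map_smul, ← orb_smul hud]
    refine Submodule.smul_mem _ _ ?_
    by_cases hc : g • pt o = 0
    · rw [hc, orb_zero]; exact zero_mem _
    · exact hgen _ hc
  have hrange : LinearMap.range LΨ = symPow p K d := by
    refine le_antisymm ?_ (mem_of_invariant (K := K) (by omega) hrangeinv ?_ ?_)
    · rintro _ ⟨a, rfl⟩
      exact Submodule.sum_mem _ fun o _ => Submodule.smul_mem _ _ (horb_mem _)
    · rintro _ ⟨a, rfl⟩
      exact Submodule.sum_mem _ fun o _ => Submodule.smul_mem _ _ (horb_mem _)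
    · intro h
      have h1 : orb (funRep K) (mon (p := p) K d 0) ((1 : SL(2, ZMod p)) • pt none) ∈ LinearMap.range LΨ :=
        hgen _ (smul_e1_ne_zero 1)
      rw [orb_smul_e1 hud, app_one, h, Submodule.mem_bot] at h1
      exact mon_ne_zero (K := K) (by omega) (Nat.zero_le d) h1
  have hker : LinearMap.ker LΨ ≤ LinearMap.ker LΦ := by
    have hle : Submodule.span K (Set.range R) ≤ LinearMap.ker LΨ :=
      Submodule.span_le.2 (by rintro _ ⟨i, rfl⟩; exact hRΨ i)
    have hcard := LΨ.finrank_range_add_finrank_ker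
    rw [hrange, finrank_symPow (by omega), Module.finrank_fintype_fun_eq_card, Fintype.card_option,
      ZMod.card] at hcard
    rw [← Submodule.eq_of_le_of_finrank_le hle
      (by rw [finrank_span_eq_card hRli, Fintype.card_fin]; omega)]
    exact Submodule.span_le.2 (by rintro _ ⟨i, rfl⟩; exact hRΦ i)
  obtain ⟨φ, hφ⟩ := LinearMap.exists_extend
    (((LinearMap.ker LΨ).liftQ LΦ hker).comp LΨ.quotKerEquivRange.symm.toLinearMap)
  have hφΨ : ∀ a, φ (LΨ a) = LΦ a := fun a => by
    have := LinearMap.congr_fun hφ ⟨LΨ a, ⟨a, rfl⟩⟩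
    simp only [LinearMap.comp_apply, Submodule.subtype_apply, LinearEquiv.coe_coe] at this
    rw [this]
    have hq : LΨ.quotKerEquivRange.symm ⟨LΨ a, ⟨a, rfl⟩⟩ = Submodule.Quotient.mk a :=
      LinearMap.quotKerEquivRange_symm_apply_image LΨ a _
    exact (congrArg _ hq).trans rfl
  have hφorb : ∀ c, φ (orb (funRep K) (mon (p := p) K d 0) c) = orb ρ v c := fun c => by
    by_cases hc : c = 0
    · rw [hc, orb_zero, orb_zero, map_zero]
    · obtain ⟨⟨t, o⟩, -, rfl⟩ := bij_pt.surjOn hc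
      rw [horbd, horbk, map_smul]
      congr 1
      have h := hφΨ (Pi.single o 1)
      rwa [show LΨ (Pi.single o 1) = orb (funRep K) (mon (p := p) K d 0) (pt o) from
          sum_single_smul o fun o' => orb (funRep K) (mon (p := p) K d 0) (pt o'),
        show LΦ (Pi.single o 1) = orb ρ v (pt o) from
          sum_single_smul o fun o' => orb ρ v (pt o')] at h
  have hv0 : φ (mon K d 0) = v := by
    have h := hφorb ((1 : SL(2, ZMod p)) • pt none)
    rwa [orb_smul_e1 hud, orb_smul_e1 hu, app_one, app_one] at h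
  refine ⟨φ, isEmb_of_ne_zero (by omega) (fun g f hf => ?_) (mon_mem K (Nat.zero_le d))
    (by rw [hv0]; exact hv), hv0⟩
  rw [← hrange] at hf
  obtain ⟨a, rfl⟩ := hf
  show φ (funRep K g (∑ o, a o • _)) = ρ g (φ (∑ o, a o • _))
  simp only [map_sum, map_smul, ← orb_smul hud, hφorb, ← orb_smul hu]

end Cfsg.Agent.FixSixth
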