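import Cfsg.Agent.Lib.FixSixth.Cover
import Cfsg.Agent.Lib.RankOneSylow.Cover
import Cfsg.Agent.Lib.CentreFreeThree.Rad
import Cfsg.Agent.Lib.AltAut.Odd
import Cfsg.Agent.Lib.Linear.PSLTwoSmall
import Cfsg.Agent.Lib.PSL2.Soluble

/-!
# The reduction to `SL₂(p)` (S5720; owner helper90)

`hasLargeFix_of_index` : given the Gorenstein-Walter statement, a finite group whose solvable radical has
index above `120` has, in every representation, an element with a large fixed space.
-/

set_option autoImplicit false
set_option linter.unusedSectionVars false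
set_option linter.style.haveILetI false

open Matrix Subgroup
open scoped MatrixGroups

namespace Cfsg.Agent.FixSixth

section Unip

variable {F : Type*} [Field F]

/-- `[[1, c], [0, 1]]`. -/
def unip (c : F) : SL(2, F) := ⟨!![1, c; 0, 1], by simp [Matrix.det_fin_two_of]⟩

theorem unip_mul (c d : F) : unip c * unip d = unip (c + d) := by
  refine Subtype.ext ?_
  show (unip c).1 * (unip d).1 = (unip (c + d)).1
  ext i j
  fin_cases i <;> fin_cases j <;> simp [unip, Matrix.mul_apply, Fin.sum_univ_two] <;> ring

theorem unip_zero : unip (0 : F) = 1 := Subtype.ext (by simp [unip, Matrix.one_fin_two])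

theorem unip_pow (c : F) (n : ℕ) : unip c ^ n = unip (n * c) := by
  induction n with
  | zero => simp [unip_zero]
  | succ n ih => rw [pow_succ, ih, unip_mul]; congr 1; push_cast; ring

theorem unip_inj {c d : F} (h : unip c = unip d) : c = d := by
  simpa [unip] using congrArg (fun g : SL(2, F) => g.1 0 1) h

/-- Above the prime field, two independent elements of order the characteristic. -/
theorem exists_independent [Fintype F] {r : ℕ} [CharP F r] (hr : r.Prime) (hq : r < Fintype.card F) :
    ∃ a b : SL(2, F), Commute a b ∧ a ^ r = 1 ∧ b ^ r = 1 ∧ a ≠ 1 ∧ b ∉ zpowers a := by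
  haveI := Fact.mk hr
  obtain ⟨c, hc⟩ : ∃ c : F, c ∉ Set.range (ZMod.castHom (dvd_refl r) F) := by
    by_contra hall
    push Not at hall
    have := Fintype.card_le_of_surjective _ (fun c => hall c : Function.Surjective (ZMod.castHom (dvd_refl r) F))
    rw [ZMod.card] at this
    omega
  refine ⟨unip 1, unip c, (unip_mul _ _).trans (by rw [add_comm, ← unip_mul]), ?_, ?_, ?_, ?_⟩
  · rw [unip_pow, CharP.cast_eq_zero, zero_mul, unip_zero]
  · rw [unip_pow, CharP.cast_eq_zero, zero_mul, unip_zero]
  · intro h
    exact one_ne_zero (unip_inj (h.trans unip_zero.symm))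
  · intro h
    rw [← mem_powers_iff_mem_zpowers, Submonoid.mem_powers_iff] at h
    obtain ⟨n, hn⟩ := h
    rw [unip_pow, mul_one] at hn
    exact hc ⟨(n : ZMod r), by rw [map_natCast]; exact unip_inj hn⟩

end Unip

theorem card_mulAut_alt_five : Nat.card (MulAut (alternatingGroup (Fin 5))) ≤ 120 := by
  have hsurj : Function.Surjective
      (MulAut.conjNormal : Equiv.Perm (Fin 5) →* MulAut (alternatingGroup (Fin 5))) := fun θ =>
    AltAut.exists_conjNormal_of_threeCycle (by norm_num) θ (AltAut.threeCycle_of_ne_six (by norm_num) θ)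
  refine (Nat.card_le_card_of_surjective _ hsurj).trans ?_
  rw [Nat.card_eq_fintype_card, Fintype.card_perm, Fintype.card_fin]
  rfl

universe u

variable {K : Type*} [Field K] {V : Type*} [AddCommGroup V] [Module K V] [FiniteDimensional K V]
  {H : Type u} [Group H] [Finite H]

/-- A perfect normal subgroup modulo its odd core `SL₂(5)` bounds the index of the radical. -/
theorem index_le_of_sl_five (X : Subgroup H) [X.Normal] (n : ℕ) (hX : derivedSeries H n = X)
    {F : Type} [Field F] [Fintype F] (hF : Fintype.card F = 5) (q : X →* SL(2, F))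
    (hq : Function.Surjective q) (hq' : Group.IsSolvable q.ker) :
    (Cfsg.solvableRadical H).index ≤ 120 := by
  have hFN : 4 ≤ Nat.card F := by rw [Nat.card_eq_fintype_card]; omega
  haveI := Matrix.ProjectiveSpecialLinearGroup.rank_two_simple (F := F) hFN
  set R := CentreFreeThree.rad H
  set m := QuotientGroup.mk' R with hm
  have hmS : Function.Surjective m := QuotientGroup.mk'_surjective _
  set g : X →* H ⧸ R := m.comp X.subtype with hg
  set f : X →* ProjectiveSpecialLinearGroup (Fin 2) F := (QuotientGroup.mk' (center SL(2, F))).comp q with hf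
  have hfS : Function.Surjective f := (QuotientGroup.mk'_surjective _).comp hq
  haveI hXb : g.range.Normal := by
    rw [hg, MonoidHom.range_comp, Subgroup.range_subtype]
    exact Subgroup.Normal.map inferInstance m hmS
  have hsolv : Group.IsSolvable f.ker := by
    haveI := hq'
    have hle : q.ker ≤ f.ker := fun x hx => by rw [MonoidHom.mem_ker, hf, MonoidHom.comp_apply, hx, map_one]
    let q' : f.ker →* center SL(2, F) := (q.comp f.ker.subtype).codRestrict _ fun x =>
      (QuotientGroup.eq_one_iff _).1 x.2
    haveI : Group.IsSolvable (center SL(2, F)) := Group.isSolvable_of_comm fun a b =>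
      Subtype.ext (mem_center_iff.1 b.2 a.1)
    exact Group.isSolvable_of_ker_le_range (Subgroup.inclusion hle) q' fun x hx =>
      ⟨⟨x.1, congrArg Subtype.val hx⟩, Subtype.ext rfl⟩
  have hker : g.ker = f.ker := by
    refine le_antisymm ?_ ?_
    · haveI : (g.ker.map f).Normal := Subgroup.Normal.map inferInstance f hfS
      rcases Subgroup.Normal.eq_bot_or_eq_top ‹(g.ker.map f).Normal› with h | h
      · exact (Subgroup.map_eq_bot_iff _).1 h
      · exfalso
        let i : g.ker →* R := (X.subtype.comp g.ker.subtype).codRestrict _ fun x =>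
          (QuotientGroup.eq_one_iff _).1 x.2
        haveI : Group.IsSolvable g.ker := Group.isSolvable_of_isSolvable_injective (f := i) fun a b hab =>
          Subtype.ext (Subtype.ext (congrArg (fun y : R => (y : H)) hab))
        haveI := Solvable.isSolvable_map f g.ker
        rw [h] at this
        exact PSL2.not_isSolvable_psl (L := F) hFN
          (Group.isSolvable_of_surjective (show Function.Surjective Subgroup.topEquiv.toMonoidHom from
            Subgroup.topEquiv.surjective))
    · intro x hx
      haveI := hsolv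
      have h1 : f.ker.map g.rangeRestrict ≤ CentreFreeThree.rad g.range :=
        CentreFreeThree.le_rad (Subgroup.Normal.map inferInstance _ g.rangeRestrict_surjective)
          (Solvable.isSolvable_map _ _)
      have h2 : g x ∈ CentreFreeThree.rad (H ⧸ R) :=
        CentreFreeThree.rad_map_le g.range ⟨g.rangeRestrict x, h1 (mem_map_of_mem _ hx), rfl⟩
      rw [CentreFreeThree.rad_quotient, Subgroup.mem_bot] at h2
      exact h2
  obtain ⟨e5⟩ := Linear.nonempty_pslTwo_five hF
  let e : g.range ≃* alternatingGroup (Fin 5) :=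
    ((QuotientGroup.quotientKerEquivRange g).symm.trans
      ((QuotientGroup.quotientMulEquivOfEq hker).trans (QuotientGroup.quotientKerEquivOfSurjective f hfS))).trans e5
  set C := (MulAut.conjNormal : H ⧸ R →* MulAut g.range).ker with hC
  have hcomm : ∀ c ∈ C, ∀ y ∈ g.range, c * y = y * c := fun c hc y hy => by
    have hc1 : MulAut.conjNormal c = (1 : MulAut g.range) := hc
    have := congrArg Subtype.val (DFunLike.congr_fun hc1 ⟨y, hy⟩)
    rw [MulAut.conjNormal_apply] at this
    exact mul_inv_eq_iff_eq_mul.1 this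
  have hQsolv : Group.IsSolvable ((H ⧸ R) ⧸ g.range) := by
    refine (Group.isSolvable_def _).2 ⟨n, ?_⟩
    rw [← map_derivedSeries_eq (f := (QuotientGroup.mk' g.range).comp m)
      ((QuotientGroup.mk'_surjective _).comp hmS) n, hX, Subgroup.map_eq_bot_iff]
    intro x hx
    exact (QuotientGroup.eq_one_iff (m x)).2 ⟨⟨x, hx⟩, rfl⟩
  have hCs : Group.IsSolvable C := by
    haveI := hQsolv
    let ψ := (QuotientGroup.mk' g.range).comp C.subtype
    haveI : Group.IsSolvable ψ.ker := Group.isSolvable_of_comm fun a b =>
      Subtype.ext (Subtype.ext (hcomm _ a.1.2 _ ((QuotientGroup.eq_one_iff _).1 b.2)))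
    exact Group.isSolvable_of_ker_le_range ψ.ker.subtype ψ fun x hx => ⟨⟨x, hx⟩, rfl⟩
  have hCbot : C = ⊥ := by
    rw [eq_bot_iff, ← CentreFreeThree.rad_quotient (G := H)]
    exact CentreFreeThree.le_rad inferInstance hCs
  calc (Cfsg.solvableRadical H).index = Nat.card (H ⧸ R) := Subgroup.index_eq_card _
    _ ≤ Nat.card (MulAut g.range) := Nat.card_le_card_of_injective _ ((MonoidHom.ker_eq_bot_iff _).1 hCbot)
    _ = Nat.card (MulAut (alternatingGroup (Fin 5))) := Nat.card_congr (MulAut.congr e).toEquiv
    _ ≤ 120 := card_mulAut_alt_five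

/-- The theorem, given the Gorenstein-Walter statement. -/
theorem hasLargeFix_of_index (hGW : RankOneSylow.GorensteinWalter.{u})
    (hR : 120 < (Cfsg.solvableRadical H).index) (ρ : H →* Module.End K V) : HasLargeFix ρ := by
  by_contra hno
  obtain ⟨M, ⟨n, rfl⟩, hmin⟩ := wellFounded_lt.has_min (Set.range (derivedSeries H)) ⟨_, 0, rfl⟩
  set X := derivedSeries H n with hXdef
  haveI : X.Normal := derivedSeries_normal H n
  have hstab : ⁅X, X⁆ = X := by
    refine eq_of_le_of_not_lt (Subgroup.commutator_le_self X) ?_
    exact hmin _ ⟨n + 1, derivedSeries_succ H n⟩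
  have hperf : commutator X = ⊤ := Subgroup.map_injective X.subtype_injective (by
    rw [Subgroup.map_subtype_commutator, hstab, ← MonoidHom.range_eq_map, Subgroup.range_subtype])
  have hXne : X ≠ ⊥ := fun h => by
    have hs : Group.IsSolvable H := (Group.isSolvable_def _).2 ⟨n, h⟩
    have htop : Cfsg.solvableRadical H = ⊤ := top_le_iff.1 (CentreFreeThree.le_rad inferInstance inferInstance)
    rw [htop, Subgroup.index_top] at hR
    omega
  have hnoX : ¬ HasLargeFix (ρ.comp X.subtype) := fun h => hno (h.of_comp X.subtype_injective)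
  have h2 : 2 ∣ Nat.card X := by
    by_contra hodd
    haveI : Group.IsSolvable X :=
      OddOrderTheorem.solvable (Nat.not_even_iff_odd.1 fun he => hodd (even_iff_two_dvd.1 he))
    exact hXne ((Subgroup.eq_bot_iff_forall X).2 fun x hx =>
      congrArg Subtype.val (Frobenius.eq_one_of_perfect hperf (MonoidHom.id X) ⟨x, hx⟩))
  have hrank : Cfsg.PRankLE 2 1 X := by
    intro A hA hA2
    by_cases hbot : A = ⊥
    · rw [hbot, Subgroup.card_bot]; norm_num
    obtain ⟨a, haA, ha1⟩ : ∃ a ∈ A, a ≠ 1 := by
      by_contra hcon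
      push Not at hcon
      exact hbot ((Subgroup.eq_bot_iff_forall A).2 hcon)
    have hle : A ≤ zpowers a := fun b hb => mem_zpowers_of_not hnoX Nat.prime_two (by norm_num)
      (congrArg Subtype.val (hA.is_comm.comm ⟨a, haA⟩ ⟨b, hb⟩)) (hA2 a haA) (hA2 b hb) ha1
    haveI := Fact.mk Nat.prime_two
    refine (Subgroup.card_le_of_le hle).trans ?_
    rw [Nat.card_zpowers, orderOf_eq_prime (hA2 a haA) ha1, pow_one]
  haveI := Cores.pPrimeCore_normal 2 (X : Subgroup H)
  set O := Cfsg.oddCore X with hO
  have hOodd : Odd (Nat.card O) :=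
    Nat.coprime_two_right.1 (Cores.coprime_card_pPrimeCore (G := X) 2)
  rcases RankOneSylow.perfect_rank_one hGW hperf hrank h2 with ⟨F, iF, iF', hFodd, hF3, ⟨e⟩⟩ | ⟨-, ⟨e⟩, -⟩
  swap
  · -- the alternating group of degree seven has noncyclic Sylow subgroups at three
    let f : X →* alternatingGroup (Fin 7) :=
      e.toMonoidHom.comp ((QuotientGroup.mk' _).comp (QuotientGroup.mk' O))
    have hfS : Function.Surjective f := e.surjective.comp
      ((QuotientGroup.mk'_surjective _).comp (QuotientGroup.mk'_surjective O))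
    let a : alternatingGroup (Fin 7) := ⟨Equiv.swap 0 1 * Equiv.swap 1 2, by simp⟩
    let b : alternatingGroup (Fin 7) := ⟨Equiv.swap 3 4 * Equiv.swap 4 5, by simp⟩
    have hb := mem_zpowers_image hnoX f hfS Nat.prime_three (by norm_num) (by norm_num) (a := a) (b := b)
      (show a * b = b * a by decide) (by decide) (by decide) (by decide)
    obtain ⟨k, hk⟩ := hb
    have h3 := congrArg (fun σ : alternatingGroup (Fin 7) => (σ : Equiv.Perm (Fin 7)) 3) hk
    simp only [Subgroup.coe_zpow] at h3
    have hfix := Equiv.Perm.zpow_apply_eq_self_of_apply_eq_self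
      (show (a : Equiv.Perm (Fin 7)) 3 = 3 by decide) k
    rw [hfix] at h3
    revert h3
    decide
  obtain ⟨p, hpF⟩ := CharP.exists F
  have hp : p.Prime := CharP.char_is_prime F p
  haveI := Fact.mk hp
  let q : X →* SL(2, F) := e.toMonoidHom.comp (QuotientGroup.mk' O)
  have hq : Function.Surjective q := e.surjective.comp (QuotientGroup.mk'_surjective O)
  have hqker : q.ker = O := by
    ext x
    rw [MonoidHom.mem_ker]
    show e (QuotientGroup.mk' O x) = 1 ↔ _
    rw [MulEquiv.map_eq_one_iff]
    exact QuotientGroup.eq_one_iff x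
  have hsmall : ∀ r : ℕ, r.Prime → r ≠ 2 → r ≤ 5 → CharP F r → Fintype.card F ≤ r := by
    intro r hr hr2 hr5 hch
    by_contra hlt
    obtain ⟨a, b, hab, har, hbr, ha1, hb⟩ := exists_independent (F := F) hr (by omega)
    exact hb (mem_zpowers_image hnoX q hq hr hr2 hr5 hab har hbr ha1)
  have hp2 : p ≠ 2 := by
    intro h
    subst h
    obtain ⟨⟨k, hk0⟩, -, hk⟩ := FiniteField.card F 2
    rw [hk] at hFodd
    exact (Nat.not_even_iff_odd.2 hFodd) (Nat.even_pow.2 ⟨even_two, (Nat.pos_iff_ne_zero.1 hk0)⟩)
  have hp7 : 7 ≤ p := by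
    by_contra hlt
    obtain ⟨⟨k, hk0⟩, -, hk⟩ := FiniteField.card F p
    have hple : p ≤ Fintype.card F := hk ▸ Nat.le_self_pow (Nat.pos_iff_ne_zero.1 hk0) p
    rcases (show p = 3 ∨ p = 4 ∨ p = 5 ∨ p = 6 by have := hp.two_le; omega) with rfl | rfl | rfl | rfl
    · have := hsmall 3 hp (by norm_num) (by norm_num) hpF; omega
    · exact absurd hp (by norm_num)
    · have h5 := hsmall 5 hp (by norm_num) (by norm_num) hpF
      have := index_le_of_sl_five X n rfl (le_antisymm h5 hple) q hq
        (hqker ▸ OddOrderTheorem.solvable hOodd)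
      omega
    · exact absurd hp (by norm_num)
  -- a minimal subgroup mapping onto `SL₂(p)`
  let ι : SL(2, ZMod p) →* SL(2, F) := Matrix.SpecialLinearGroup.map (ZMod.castHom (dvd_refl p) F)
  have hι : Function.Injective ι := fun s t h => by
    refine Subtype.ext (Matrix.ext fun i j => ?_)
    exact (ZMod.castHom (dvd_refl p) F).injective (congrFun (congrFun (congrArg Subtype.val h) i) j)
  let ψ : ι.range.comap q →* SL(2, ZMod p) :=
    (MonoidHom.ofInjective hι).symm.toMonoidHom.comp (q.subgroupComap ι.range)
  have hψ : Function.Surjective ψ := (MonoidHom.ofInjective hι).symm.surjective.comp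
    (q.subgroupComap_surjective_of_surjective _ hq)
  obtain ⟨L, hL, hLmin⟩ := wellFounded_lt.has_min {M : Subgroup (ι.range.comap q) | M.map ψ = ⊤}
    ⟨⊤, map_top_of_surjective ψ hψ⟩
  let π : L →* SL(2, ZMod p) := ψ.comp L.subtype
  have hπ : Function.Surjective π := fun s => by
    obtain ⟨x, hx, rfl⟩ := hL.ge (mem_top s)
    exact ⟨⟨x, hx⟩, rfl⟩
  have hπmin : ∀ M : Subgroup L, M.map π = ⊤ → M = ⊤ := fun M hM => by
    have h1 : (M.map L.subtype).map ψ = ⊤ := by rw [Subgroup.map_map]; exact hM
    have h2 := eq_of_le_of_not_lt (map_subtype_le M) (hLmin _ h1)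
    exact Subgroup.map_injective L.subtype_injective
      (h2.trans (by rw [← MonoidHom.range_eq_map, Subgroup.range_subtype]))
  have hπodd : Odd (Nat.card π.ker) := by
    let j : π.ker →* O := ((ι.range.comap q).subtype.comp (L.subtype.comp π.ker.subtype)).codRestrict _
      fun x => by
        rw [← hqker, MonoidHom.mem_ker]
        have h1 : q.subgroupComap ι.range x.1.1 = 1 :=
          (MonoidHom.ofInjective hι).symm.injective (x.2.trans (map_one _).symm)
        exact congrArg Subtype.val h1
    refine Odd.of_dvd_nat hOodd (Subgroup.card_dvd_of_injective j fun a b hab => ?_)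
    exact Subtype.ext (Subtype.ext (Subtype.ext (congrArg (fun y : O => (y : X)) hab)))
  exact hnoX (HasLargeFix.of_comp (f := (ι.range.comap q).subtype.comp L.subtype)
    ((ι.range.comap q).subtype_injective.comp L.subtype_injective)
    (hasLargeFix_of_cover hp7 π hπ hπodd hπmin _))

end Cfsg.Agent.FixSixth
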