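import Cfsg.Agent.Lib.FixSixth.Basic

/-!
# The symmetric powers of the natural module of `SL₂(p)` as spaces of functions (S5720; owner helper90)

* `mem_of_invariant` : `symPow p K d` is irreducible for `d < p`
* `lowA_pow_mon` : the chain of `u - 1`
* `card_fixIdx_le_finrank` : the fixed space of the element of order three
-/

set_option autoImplicit false
set_option linter.unusedSectionVars false

open Module Matrix
open scoped MatrixGroups

namespace Cfsg.Agent.FixSixth

open FixedHalf (fixSub mem_fixSub)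

variable (p : ℕ) [Fact p.Prime]

/-- The plane. -/
abbrev Plane : Type := Fin 2 → ZMod p

/-- `[[1, -1], [0, 1]]`. -/
def uE : SL(2, ZMod p) := ⟨!![1, -1; 0, 1], by simp [Matrix.det_fin_two]⟩

/-- `[[0, 1], [-1, 0]]`. -/
def wE : SL(2, ZMod p) := ⟨!![0, 1; -1, 0], by simp [Matrix.det_fin_two]⟩

/-- `[[-1, -1], [1, 0]]`, of order three. -/
def xE : SL(2, ZMod p) := ⟨!![-1, -1; 1, 0], by simp [Matrix.det_fin_two]⟩

/-- `diag(t, t⁻¹)`. -/
def hE (t : (ZMod p)ˣ) : SL(2, ZMod p) :=
  ⟨!![(t : ZMod p), 0; 0, (↑(t⁻¹) : ZMod p)], by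
    rw [Matrix.det_fin_two_of, mul_zero, sub_zero, Units.mul_inv]⟩

variable {p}

theorem smul_plane (g : SL(2, ZMod p)) (c : Plane p) :
    g • c = ![g.1 0 0 * c 0 + g.1 0 1 * c 1, g.1 1 0 * c 0 + g.1 1 1 * c 1] := by
  show g.1 *ᵥ c = _
  ext i
  fin_cases i <;> simp [Matrix.mulVec, dotProduct, Fin.sum_univ_two]

theorem inv_smul_plane (g : SL(2, ZMod p)) (c : Plane p) :
    g⁻¹ • c = ![g.1 1 1 * c 0 - g.1 0 1 * c 1, g.1 0 0 * c 1 - g.1 1 0 * c 0] := by
  rw [smul_plane, show (g⁻¹).1 = adjugate g.1 from rfl, adjugate_fin_two]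
  simp only [of_apply, cons_val', cons_val_zero, cons_val_one, empty_val', cons_val_fin_one]
  ext i
  fin_cases i <;> simp <;> ring

variable (K : Type*) [Field K] [CharP K p]

/-- The embedding of the prime field. -/
noncomputable def ci : ZMod p →+* K := ZMod.castHom (dvd_refl p) K

/-- Functions on the plane. -/
noncomputable def funRep : SL(2, ZMod p) →* Module.End K (Plane p → K) where
  toFun g := LinearMap.funLeft K K fun c => g⁻¹ • c
  map_one' := by ext f c; simp [LinearMap.funLeft_apply]
  map_mul' a b := by ext f c; simp [LinearMap.funLeft_apply, _root_.mul_inv_rev, SemigroupAction.mul_smul]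

theorem funRep_apply (g : SL(2, ZMod p)) (f : Plane p → K) (c : Plane p) : funRep K g f c = f (g⁻¹ • c) := rfl

/-- The coordinate functions. -/
noncomputable def coord (i : Fin 2) : Plane p → K := fun c => ci K (c i)

/-- The monomials. -/
noncomputable def mon (d i : ℕ) : Plane p → K := coord K 0 ^ i * coord K 1 ^ (d - i)

theorem mon_apply (d i : ℕ) (c : Plane p) : mon K d i c = ci K (c 0) ^ i * ci K (c 1) ^ (d - i) := rfl

variable (p) in
/-- Homogeneous polynomial functions of degree `d`. -/
noncomputable def symPow (d : ℕ) : Submodule K (Plane p → K) :=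
  Submodule.span K (Set.range fun i : Fin (d + 1) => mon K d i)

theorem mon_mem {d i : ℕ} (hi : i ≤ d) : mon K d i ∈ symPow p K d :=
  Submodule.subset_span ⟨⟨i, by omega⟩, rfl⟩

section Products

variable {K}

/-- Products of combinations of two functions. -/
theorem pow_mul_pow_mem (ξ η : Plane p → K) {a b a' b' : K} (i j : ℕ) :
    (a • ξ + b • η) ^ i * (a' • ξ + b' • η) ^ j ∈
      Submodule.span K (Set.range fun l : Fin (i + j + 1) => ξ ^ (l : ℕ) * η ^ (i + j - (l : ℕ))) := by
  have step : ∀ (n : ℕ) (c e : K), ∀ f ∈ Submodule.span K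
      (Set.range fun l : Fin (n + 1) => ξ ^ (l : ℕ) * η ^ (n - (l : ℕ))),
      (c • ξ + e • η) * f ∈ Submodule.span K
        (Set.range fun l : Fin (n + 1 + 1) => ξ ^ (l : ℕ) * η ^ (n + 1 - (l : ℕ))) := by
    intro n c e f hf
    induction hf using Submodule.span_induction with
    | mem f hf =>
      obtain ⟨⟨l, hl⟩, rfl⟩ := hf
      rw [add_mul, smul_mul_assoc, smul_mul_assoc]
      refine add_mem (Submodule.smul_mem _ _ ?_) (Submodule.smul_mem _ _ ?_)
      · refine Submodule.subset_span ⟨⟨l + 1, by omega⟩, ?_⟩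
        show ξ ^ (l + 1) * η ^ (n + 1 - (l + 1)) = ξ * (ξ ^ l * η ^ (n - l))
        rw [Nat.succ_sub_succ, pow_succ']; ring
      · refine Submodule.subset_span ⟨⟨l, by omega⟩, ?_⟩
        show ξ ^ l * η ^ (n + 1 - l) = η * (ξ ^ l * η ^ (n - l))
        rw [Nat.succ_sub (by omega), pow_succ']; ring
    | zero => simp
    | add f g _ _ hf hg => rw [mul_add]; exact add_mem hf hg
    | smul r f _ hf => rw [mul_smul_comm]; exact Submodule.smul_mem _ _ hf
  induction i with
  | succ i ih =>
    have h := step (i + j) a b _ ih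
    rw [show i + 1 + j = i + j + 1 by omega, pow_succ', mul_assoc]
    exact h
  | zero =>
    rw [pow_zero, one_mul, Nat.zero_add]
    induction j with
    | zero => exact Submodule.subset_span ⟨⟨0, by omega⟩, by simp⟩
    | succ j ih => rw [pow_succ']; exact step j a' b' _ ih

end Products

theorem funRep_mem (g : SL(2, ZMod p)) {d : ℕ} {f : Plane p → K} (hf : f ∈ symPow p K d) :
    funRep K g f ∈ symPow p K d := by
  induction hf using Submodule.span_induction with
  | mem f hf =>
    obtain ⟨⟨i, hi⟩, rfl⟩ := hf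
    have h := pow_mul_pow_mem (coord (p := p) K 0) (coord K 1) (a := ci K (g.1 1 1)) (b := -ci K (g.1 0 1))
      (a' := -ci K (g.1 1 0)) (b' := ci K (g.1 0 0)) i (d - i)
    rw [show i + (d - i) = d by omega] at h
    have e : funRep K g (mon K d i) = (ci K (g.1 1 1) • coord K 0 + -ci K (g.1 0 1) • coord K 1) ^ i *
        (-ci K (g.1 1 0) • coord K 0 + ci K (g.1 0 0) • coord K 1) ^ (d - i) := by
      funext c
      rw [funRep_apply, mon_apply, inv_smul_plane]
      simp only [Pi.mul_apply, Pi.pow_apply, Pi.add_apply, Pi.smul_apply, smul_eq_mul, coord,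
        cons_val_zero, cons_val_one, cons_val_fin_one, map_sub, map_mul]
      congr 2 <;> ring
    rw [e]
    exact h
  | zero => simp
  | add f g' _ _ hf hg => rw [map_add]; exact add_mem hf hg
  | smul r f _ hf => rw [map_smul]; exact Submodule.smul_mem _ _ hf

variable {K}

theorem coeff_eq_zero {d : ℕ} (hd : d < p) {a : Fin (d + 1) → K}
    (h : ∑ i : Fin (d + 1), a i • mon (p := p) K d i = 0) (i : Fin (d + 1)) : a i = 0 := by
  classical
  let P : Polynomial K := ∑ i : Fin (d + 1), Polynomial.C (a i) * Polynomial.X ^ (i : ℕ)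
  have hP : P = 0 := by
    refine Polynomial.eq_zero_of_natDegree_lt_card_of_eval_eq_zero P (ci (p := p) K).injective (fun j => ?_) ?_
    · have := congrFun h ![j, 1]
      simpa [P, Polynomial.eval_finset_sum, Finset.sum_apply, mon_apply, map_one] using this
    · rw [ZMod.card]
      refine lt_of_le_of_lt (Polynomial.natDegree_sum_le_of_forall_le _ _ fun i _ => ?_) hd
      exact (Polynomial.natDegree_C_mul_X_pow_le _ _).trans (Nat.le_of_lt_succ i.2)
  have := congrArg (fun Q => Polynomial.coeff Q (i : ℕ)) hP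
  simpa [P, Polynomial.finset_sum_coeff, Polynomial.coeff_C_mul_X_pow, Fin.val_inj] using this

theorem linearIndependent_mon {d : ℕ} (hd : d < p) :
    LinearIndependent K (fun i : Fin (d + 1) => mon (p := p) K d i) :=
  Fintype.linearIndependent_iff.2 fun _ h => coeff_eq_zero hd h

theorem finrank_symPow {d : ℕ} (hd : d < p) : finrank K (symPow p K d) = d + 1 := by
  rw [symPow, finrank_span_eq_card (linearIndependent_mon hd), Fintype.card_fin]

theorem mon_ne_zero {d i : ℕ} (hd : d < p) (hi : i ≤ d) : mon (p := p) K d i ≠ 0 :=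
  (linearIndependent_mon (K := K) hd).ne_zero ⟨i, by omega⟩

/-- `u - 1`. -/
noncomputable def lowA : Module.End K (Plane p → K) := funRep K (uE p) - 1

variable (p K) in
/-- The monomials below `j`. -/
noncomputable def below (d j : ℕ) : Submodule K (Plane p → K) :=
  Submodule.span K (Set.range fun l : Fin j => mon K d l)

theorem below_mono {d j j' : ℕ} (h : j ≤ j') : below p K d j ≤ below p K d j' := by
  refine Submodule.span_le.2 ?_
  rintro _ ⟨l, rfl⟩
  exact Submodule.subset_span ⟨⟨l, by omega⟩, rfl⟩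

theorem lowA_mon {d : ℕ} (i : ℕ) (hi : i ≤ d) :
    lowA (mon (p := p) K d i) = ∑ l ∈ Finset.range i, (i.choose l : K) • mon K d l := by
  ext c
  rw [lowA, LinearMap.sub_apply, Module.End.one_apply, Pi.sub_apply, funRep_apply, mon_apply, mon_apply,
    inv_smul_plane, Finset.sum_apply]
  simp only [uE, of_apply, cons_val', cons_val_zero, cons_val_one, empty_val', cons_val_fin_one,
    one_mul, neg_mul, sub_neg_eq_add, zero_mul, sub_zero, map_add]
  rw [add_pow, Finset.sum_mul, Finset.sum_range_succ, Nat.choose_self, Nat.cast_one, mul_one, Nat.sub_self,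
    pow_zero, mul_one, add_sub_cancel_right]
  refine Finset.sum_congr rfl fun l hl => ?_
  rw [Finset.mem_range] at hl
  rw [Pi.smul_apply, mon_apply, smul_eq_mul, show d - l = (i - l) + (d - i) by omega, pow_add]
  ring

theorem lowA_below {d j : ℕ} (hj : j ≤ d) {f : Plane p → K} (hf : f ∈ below p K d (j + 1)) :
    lowA f ∈ below p K d j := by
  induction hf using Submodule.span_induction with
  | mem f hf =>
    obtain ⟨⟨l, hl⟩, rfl⟩ := hf
    rw [lowA_mon l (by omega)]
    exact Submodule.sum_mem _ fun m hm => Submodule.smul_mem _ _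
      (Submodule.subset_span ⟨⟨m, by have := Finset.mem_range.1 hm; omega⟩, rfl⟩)
  | zero => simp
  | add f g _ _ hf hg => rw [map_add]; exact add_mem hf hg
  | smul r f _ hf => rw [map_smul]; exact Submodule.smul_mem _ _ hf

/-- `(u - 1)ᵏ` on a monomial: leading term. -/
theorem lowA_pow_mon {d i k : ℕ} (hi : i ≤ d) (hk : k ≤ i) :
    (lowA ^ k) (mon (p := p) K d i) - (i.descFactorial k : K) • mon K d (i - k) ∈ below p K d (i - k) := by
  induction k with
  | zero => simp
  | succ k ih =>
    have h := ih (by omega)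
    obtain ⟨m, hm⟩ : ∃ m, i - k = m + 1 := ⟨i - k - 1, by omega⟩
    rw [hm] at h
    have h1 := lowA_below (by omega) h
    rw [map_sub, map_smul, ← Module.End.mul_apply, ← pow_succ', lowA_mon (m + 1) (by omega),
      Finset.sum_range_succ, Nat.choose_succ_self_right] at h1
    rw [show i - (k + 1) = m by omega, Nat.descFactorial_succ, hm, Nat.cast_mul, mul_comm]
    have h2 : (∑ l ∈ Finset.range m, ((m + 1).choose l : K) • mon (p := p) K d l) ∈ below p K d m :=
      Submodule.sum_mem _ fun l hl => Submodule.smul_mem _ _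
        (Submodule.subset_span ⟨⟨l, Finset.mem_range.1 hl⟩, rfl⟩)
    have h3 := add_mem h1 (Submodule.smul_mem _ (i.descFactorial k : K) h2)
    rw [smul_add, smul_smul] at h3
    convert h3 using 1
    abel

theorem lowA_pow_top {d i : ℕ} (hi : i ≤ d) :
    (lowA ^ i) (mon (p := p) K d i) = (i.factorial : K) • mon K d 0 := by
  have h := lowA_pow_mon (K := K) (p := p) hi le_rfl
  rw [Nat.sub_self, Nat.descFactorial_self, below, Set.range_eq_empty, Submodule.span_empty,
    Submodule.mem_bot, sub_eq_zero] at h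
  exact h

theorem lowA_pow_below {d j : ℕ} (hj : j ≤ d + 1) {f : Plane p → K} (hf : f ∈ below p K d j) :
    (lowA ^ j) f = 0 := by
  induction j generalizing f with
  | zero =>
    rw [below, Set.range_eq_empty, Submodule.span_empty, Submodule.mem_bot] at hf
    simp [hf]
  | succ j ih =>
    rw [pow_succ, Module.End.mul_apply]
    exact ih (by omega) (lowA_below (by omega) hf)

theorem factorial_ne_zero {i : ℕ} (hi : i < p) : (i.factorial : K) ≠ 0 := fun h => by
  rw [CharP.cast_eq_zero_iff K p] at h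
  exact absurd ((Fact.out : p.Prime).dvd_factorial.1 h) (by omega)

theorem funRep_wE_mon_zero {d : ℕ} : funRep K (wE p) (mon (p := p) K d 0) = mon K d d := by
  ext c
  rw [funRep_apply, mon_apply, mon_apply, inv_smul_plane]
  simp [wE]

/-- `symPow p K d` is irreducible. -/
theorem mem_of_invariant {d : ℕ} (hd : d < p) {N : Submodule K (Plane p → K)}
    (hN : ∀ g, ∀ f ∈ N, funRep K g f ∈ N) (hle : N ≤ symPow p K d) (hne : N ≠ ⊥) :
    symPow p K d ≤ N := by
  classical
  have hA : ∀ j, ∀ f ∈ N, (lowA ^ j) f ∈ N := by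
    intro j
    induction j with
    | zero => simp
    | succ j ih =>
      intro f hf
      rw [pow_succ', Module.End.mul_apply]
      exact sub_mem (hN _ _ (ih f hf)) (ih f hf)
  -- the lowest monomial
  obtain ⟨f, hf, hf0⟩ := Submodule.exists_mem_ne_zero_of_ne_bot hne
  have h0 : mon K d 0 ∈ N := by
    have hex : ∃ j, j ≤ d + 1 ∧ f ∈ below p K d j := ⟨d + 1, le_rfl, hle hf⟩
    obtain ⟨hjle, hj⟩ := Nat.find_spec hex
    rcases hjv : Nat.find hex with _ | j
    · rw [hjv, below, Set.range_eq_empty, Submodule.span_empty, Submodule.mem_bot] at hj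
      exact absurd hj hf0
    rw [hjv] at hjle hj
    obtain ⟨a, rfl⟩ := (Submodule.mem_span_range_iff_exists_fun K).1 hj
    rw [Fin.sum_univ_castSucc] at hf hj
    set r : Plane p → K := ∑ i : Fin j, a i.castSucc • mon K d (Fin.castSucc i : ℕ)
    have hr : r ∈ below p K d j := Submodule.sum_mem _ fun i _ => Submodule.smul_mem _ _
      (Submodule.subset_span ⟨i, rfl⟩)
    have ha : a (Fin.last j) ≠ 0 := by
      intro ha
      refine Nat.find_min hex (show j < Nat.find hex by omega) ⟨by omega, ?_⟩
      rw [Fin.sum_univ_castSucc, ha, zero_smul, add_zero]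
      exact hr
    have h1 := hA j _ hf
    rw [map_add, lowA_pow_below (by omega) hr, zero_add, map_smul, Fin.val_last,
      lowA_pow_top (by omega), smul_smul] at h1
    exact (Submodule.smul_mem_iff _ (mul_ne_zero ha (factorial_ne_zero (by omega)))).1 h1
  have htop : mon K d d ∈ N := funRep_wE_mon_zero (K := K) (p := p) ▸ hN _ _ h0
  have hbel : ∀ j ≤ d + 1, below p K d j ≤ N := by
    intro j
    induction j with
    | zero => intro _; simp [below]
    | succ j ih =>
      intro hj
      refine Submodule.span_le.2 ?_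
      rintro _ ⟨⟨l, hl⟩, rfl⟩
      rcases Nat.lt_or_eq_of_le (Nat.le_of_lt_succ hl) with h | rfl
      · exact ih (by omega) (Submodule.subset_span ⟨⟨l, h⟩, rfl⟩)
      have h1 := lowA_pow_mon (K := K) (p := p) (le_refl d) (Nat.sub_le d l)
      rw [show d - (d - l) = l by omega] at h1
      have h2 := sub_mem (hA (d - l) _ htop) (ih (by omega) h1)
      rw [sub_sub_cancel] at h2
      refine (Submodule.smul_mem_iff _ ?_).1 h2
      intro h
      rw [CharP.cast_eq_zero_iff K p] at h
      have h3 : d.descFactorial (d - l) ∣ d.factorial :=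
        ⟨(d - (d - l)).factorial, by rw [mul_comm]; exact (Nat.factorial_mul_descFactorial (Nat.sub_le d l)).symm⟩
      exact absurd ((Fact.out : p.Prime).dvd_factorial.1 (h.trans h3)) (by omega)
  exact hbel (d + 1) le_rfl

theorem funRep_uE_mon_zero {d : ℕ} : funRep K (uE p) (mon (p := p) K d 0) = mon K d 0 := by
  have h := lowA_mon (K := K) (p := p) (d := d) 0 (Nat.zero_le _)
  rwa [Finset.range_zero, Finset.sum_empty, lowA, LinearMap.sub_apply, Module.End.one_apply, sub_eq_zero] at h

theorem funRep_hE_mon {d i : ℕ} (hi : i ≤ d) (t : (ZMod p)ˣ) :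
    funRep K (hE p t) (mon (p := p) K d i)
      = ((Units.map (ci K : ZMod p →* K) t) ^ ((d : ℤ) - 2 * i) : Kˣ).val • mon K d i := by
  ext c
  rw [funRep_apply, inv_smul_plane, Pi.smul_apply, mon_apply, mon_apply, smul_eq_mul]
  simp only [hE, of_apply, cons_val', cons_val_zero, cons_val_one, empty_val', cons_val_fin_one,
    zero_mul, sub_zero, map_mul, mul_pow]
  have e : ((Units.map (ci K : ZMod p →* K) t) ^ ((d : ℤ) - 2 * i) : Kˣ).val
      = ci K (↑t⁻¹ : ZMod p) ^ i * ci K (t : ZMod p) ^ (d - i) := by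
    rw [show (d : ℤ) - 2 * i = ((d - i : ℕ) : ℤ) + -(i : ℤ) by push_cast [Nat.cast_sub hi]; ring, _root_.zpow_add,
      zpow_natCast, _root_.zpow_neg, zpow_natCast, ← inv_pow, ← map_inv, Units.val_mul, Units.val_pow_eq_pow_val,
      Units.val_pow_eq_pow_val, mul_comm]
    rfl
  rw [e]; ring

/-- The exponents giving vectors fixed by the element of order three. -/
def fixIdx (d : ℕ) : Finset (Fin (d + 1)) := Finset.univ.filter fun i => (i : ℕ) % 3 = (2 * d) % 3

theorem card_fixIdx_le_finrank {d : ℕ} (hd : d < p) {ω : K} (hω : ω ^ 2 + ω + 1 = 0) (h3 : (3 : K) ≠ 0) :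
    (fixIdx d).card ≤ finrank K ↥(fixSub (funRep K (xE p)) ⊓ symPow p K d) := by
  set Z : Plane p → K := coord K 0 - ω • coord K 1 with hZ
  set W : Plane p → K := coord K 0 - ω ^ 2 • coord K 1 with hW
  let nu : Fin (d + 1) → (Plane p → K) := fun i => Z ^ (i : ℕ) * W ^ (d - (i : ℕ))
  have hdel : ω ^ 2 - ω ≠ 0 := fun h => by
    have h1 : ω = 1 ∨ ω = 0 := by
      rcases mul_eq_zero.1 (show ω * (ω - 1) = 0 by linear_combination h) with h' | h'
      · exact Or.inr h'
      · exact Or.inl (sub_eq_zero.1 h')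
    rcases h1 with rfl | rfl
    · exact h3 (by linear_combination hω)
    · simp at hω
  set cz : K := (ω ^ 2 - ω)⁻¹
  have hcz : cz * (ω ^ 2 - ω) = 1 := inv_mul_cancel₀ hdel
  have e0 : coord (p := p) K 0 = (cz * ω ^ 2) • Z + (-(cz * ω)) • W := by
    ext c
    simp only [hZ, hW, Pi.add_apply, Pi.smul_apply, Pi.sub_apply, smul_eq_mul]
    linear_combination (-(coord K 0 c)) * hcz
  have e1 : coord (p := p) K 1 = cz • Z + (-cz) • W := by
    ext c
    simp only [hZ, hW, Pi.add_apply, Pi.smul_apply, Pi.sub_apply, smul_eq_mul]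
    linear_combination (-(coord K 1 c)) * hcz
  have hspan : symPow p K d = Submodule.span K (Set.range nu) := by
    refine le_antisymm (Submodule.span_le.2 ?_) (Submodule.span_le.2 ?_)
    · rintro _ ⟨⟨i, hi⟩, rfl⟩
      have h := pow_mul_pow_mem Z W (a := cz * ω ^ 2) (b := -(cz * ω)) (a' := cz) (b' := -cz) i (d - i)
      rw [← e0, ← e1, show i + (d - i) = d by omega] at h
      exact h
    · rintro _ ⟨⟨i, hi⟩, rfl⟩
      have h := pow_mul_pow_mem (coord (p := p) K 0) (coord K 1) (a := 1) (b := -ω) (a' := 1) (b' := -ω ^ 2)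
        i (d - i)
      rw [one_smul, neg_smul, ← sub_eq_add_neg, neg_smul, ← sub_eq_add_neg, show i + (d - i) = d by omega] at h
      exact h
  have hli : LinearIndependent K nu := by
    rw [linearIndependent_iff_card_eq_finrank_span, Fintype.card_fin, Set.finrank, ← hspan,
      finrank_symPow hd]
  have hxZ : ∀ c, Z ((xE p)⁻¹ • c) = ω * Z c := fun c => by
    rw [inv_smul_plane]
    simp [hZ, xE, coord]
    linear_combination (-(ci K (c 1))) * hω * (-1)
  have hxW : ∀ c, W ((xE p)⁻¹ • c) = ω ^ 2 * W c := fun c => by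
    rw [inv_smul_plane]
    simp [hW, xE, coord]
    linear_combination ((ω ^ 2 - ω + 1) * ci K (c 1)) * hω
  have hω3 : ω ^ 3 = 1 := by linear_combination (ω - 1) * hω
  have hfix : ∀ i ∈ fixIdx d, nu i ∈ fixSub (funRep K (xE p)) ⊓ symPow p K d := by
    intro i hi
    refine ⟨mem_fixSub.2 (funext fun c => ?_), hspan ▸ Submodule.subset_span ⟨i, rfl⟩⟩
    rw [funRep_apply]
    simp only [nu, Pi.mul_apply, Pi.pow_apply, hxZ, hxW, mul_pow]
    rw [mul_mul_mul_comm]
    have hpow : ω ^ (i : ℕ) * (ω ^ 2) ^ (d - (i : ℕ)) = 1 := by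
      obtain ⟨-, hi'⟩ := Finset.mem_filter.1 hi
      have hi2 := i.2
      obtain ⟨q, hq⟩ : 3 ∣ (i : ℕ) + 2 * (d - (i : ℕ)) := by omega
      rw [← pow_mul, ← pow_add, hq, pow_mul, hω3, one_pow]
    rw [hpow, one_mul]
  calc (fixIdx d).card
      = finrank K (Submodule.span K (Set.range fun i : fixIdx d => nu i.1)) := by
        have e := finrank_span_eq_card (hli.comp (fun i : fixIdx d => i.1) Subtype.val_injective)
        rw [Fintype.card_coe] at e
        exact e.symm
    _ ≤ _ := Submodule.finrank_mono (Submodule.span_le.2 (by rintro _ ⟨⟨i, hi⟩, rfl⟩; exact hfix i hi))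

end Cfsg.Agent.FixSixth
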