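import Cfsg.Agent.Lib.FixSixth.SymPow

/-!
# Weights and chains in a module of `SL₂(p)` in characteristic `p` (S5720; owner helper90)

* `IsWt`, `proj`, `sum_proj` : the torus decomposition
* `low_finrank`, `IsBlock` : a chain of `u - 1` filling a submodule
* `IsBlock.obstruction` : a vector fixed modulo a block but not liftable
-/

set_option autoImplicit false
set_option linter.unusedSectionVars false

open Module Matrix
open scoped MatrixGroups

namespace Cfsg.Agent.FixSixth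

open FixedHalf (fixSub mem_fixSub)

variable {p : ℕ} [Fact p.Prime] {K : Type*} [Field K] [CharP K p]
  {V : Type*} [AddCommGroup V] [Module K V]

theorem uE_pow (n : ℕ) : ((uE p) ^ n).1 = !![1, -(n : ZMod p); 0, 1] := by
  induction n with
  | zero => simp [Matrix.one_fin_two]
  | succ n ih =>
    rw [pow_succ]
    show ((uE p) ^ n).1 * (uE p).1 = _
    rw [ih]
    ext i j
    fin_cases i <;> fin_cases j <;> simp [uE, Matrix.mul_apply, Fin.sum_univ_two] <;> ring

theorem uE_pow_prime : (uE p) ^ p = 1 := by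
  refine Subtype.ext ?_
  rw [uE_pow]
  simp [Matrix.one_fin_two]

theorem hE_mul (a b : (ZMod p)ˣ) : hE p (a * b) = hE p a * hE p b := by
  refine Subtype.ext ?_
  show _ = (hE p a).1 * (hE p b).1
  ext i j
  fin_cases i <;> fin_cases j <;> simp [hE, -Units.val_inv_eq_inv_val, Matrix.mul_apply, Fin.sum_univ_two] <;> ring

theorem hE_one : hE p 1 = 1 := by
  refine Subtype.ext ?_
  simp [hE, -Units.val_inv_eq_inv_val, Matrix.one_fin_two]

theorem hE_mul_uE (t : (ZMod p)ˣ) :
    hE p t * uE p = (uE p) ^ ((t : ZMod p) * t).val * hE p t := by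
  refine Subtype.ext ?_
  show (hE p t).1 * (uE p).1 = ((uE p) ^ _).1 * (hE p t).1
  rw [uE_pow, ZMod.natCast_zmod_val]
  ext i j
  fin_cases i <;> fin_cases j <;> simp [hE, -Units.val_inv_eq_inv_val, uE, Matrix.mul_apply, Fin.sum_univ_two]

theorem uE_mul_hE (t : (ZMod p)ˣ) :
    uE p * hE p t = hE p t * (uE p) ^ ((↑t⁻¹ : ZMod p) * ↑t⁻¹).val := by
  refine Subtype.ext ?_
  show (uE p).1 * (hE p t).1 = (hE p t).1 * ((uE p) ^ _).1
  rw [uE_pow, ZMod.natCast_zmod_val]
  ext i j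
  fin_cases i <;> fin_cases j <;> simp [hE, -Units.val_inv_eq_inv_val, uE, Matrix.mul_apply, Fin.sum_univ_two]

variable (p K) in
/-- The character of the torus. -/
noncomputable def chi : (ZMod p)ˣ →* Kˣ := Units.map (ci K : ZMod p →* K)

theorem chi_val (t : (ZMod p)ˣ) : ((chi p K t : Kˣ) : K) = ci K (t : ZMod p) := rfl

theorem chi_pow_card (t : (ZMod p)ˣ) : chi p K t ^ (p - 1) = 1 := by
  rw [← map_pow, ZMod.units_pow_card_sub_one_eq_one, map_one]

theorem chi_zpow_of_dvd (t : (ZMod p)ˣ) {a b : ℤ} (h : ((p - 1 : ℕ) : ℤ) ∣ a - b) :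
    chi p K t ^ a = chi p K t ^ b := by
  obtain ⟨q, hq⟩ := h
  rw [show a = ((p - 1 : ℕ) : ℤ) * q + b by omega, _root_.zpow_add, _root_.zpow_mul, zpow_natCast,
    chi_pow_card, _root_.one_zpow, one_mul]

theorem dvd_of_chi_zpow_eq {a b : ℤ} (h : ∀ t, chi p K t ^ a = chi p K t ^ b) :
    ((p - 1 : ℕ) : ℤ) ∣ a - b := by
  obtain ⟨g, hg⟩ := IsCyclic.exists_generator (α := (ZMod p)ˣ)
  have hinj : Function.Injective (chi p K) := Units.map_injective (ci (p := p) K).injective
  have h1 : g ^ (a - b) = 1 := hinj (by rw [map_zpow, map_one, _root_.zpow_sub, h g, mul_inv_cancel])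
  have hord : orderOf g = p - 1 := by
    rw [orderOf_eq_card_of_forall_mem_zpowers hg, Nat.card_eq_fintype_card, ZMod.card_units]
  rw [← hord]
  exact orderOf_dvd_iff_zpow_eq_one.2 h1

variable (ρ : SL(2, ZMod p) →* Module.End K V)

/-- A weight vector. -/
def IsWt (v : V) (k : ℤ) : Prop := ∀ t, ρ (hE p t) v = ((chi p K t ^ k : Kˣ) : K) • v

variable {ρ}

/-- `u - 1`. -/
noncomputable def aOp (ρ : SL(2, ZMod p) →* Module.End K V) : Module.End K V := ρ (uE p) - 1

theorem aOp_apply (v : V) : aOp ρ v = ρ (uE p) v - v := rfl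

theorem aOp_pow_prime : (aOp ρ) ^ p = 0 := by
  rcases subsingleton_or_nontrivial V with hV | hV
  · exact Subsingleton.elim _ _
  haveI : CharP (Module.End K V) p :=
    charP_of_injective_algebraMap (FaithfulSMul.algebraMap_injective K (Module.End K V)) p
  rw [aOp, sub_pow_char_of_commute p (Commute.one_right _), one_pow, ← map_pow, uE_pow_prime, map_one,
    sub_self]

/-- An invariant subspace. -/
def IsInv (ρ : SL(2, ZMod p) →* Module.End K V) (S : Submodule K V) : Prop := ∀ g, ∀ v ∈ S, ρ g v ∈ S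

theorem IsInv.aOp_mem {S : Submodule K V} (hS : IsInv ρ S) {v : V} (hv : v ∈ S) : aOp ρ v ∈ S :=
  sub_mem (hS _ v hv) hv

theorem IsInv.map_le {S : Submodule K V} (hS : IsInv ρ S) : S.map (aOp ρ) ≤ S := by
  rintro _ ⟨v, hv, rfl⟩; exact hS.aOp_mem hv

/-- `uʲ - 1` on a vector that `u - 1` maps into an invariant subspace. -/
theorem pow_uE_sub {S : Submodule K V} (hS : IsInv ρ S) {v : V} (hv : aOp ρ v ∈ S) (j : ℕ) :
    ρ ((uE p) ^ j) v - v ∈ S ∧ ρ ((uE p) ^ j) v - v - (j : K) • aOp ρ v ∈ S.map (aOp ρ) := by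
  induction j with
  | zero => simp
  | succ j ih =>
    have e : ρ ((uE p) ^ (j + 1)) v - v = (ρ ((uE p) ^ j) v - v) + aOp ρ (ρ ((uE p) ^ j) v - v) + aOp ρ v := by
      rw [pow_succ', app_mul, aOp_apply, aOp_apply, map_sub]; abel
    refine ⟨?_, ?_⟩
    · rw [e]; exact add_mem (add_mem ih.1 (hS.aOp_mem ih.1)) hv
    · rw [e, Nat.cast_succ, add_smul, one_smul]
      have := add_mem ih.2 (Submodule.mem_map_of_mem (f := aOp ρ) ih.1)
      convert this using 1
      abel

theorem aOp_hE (t : (ZMod p)ˣ) (v : V) :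
    aOp ρ (ρ (hE p t) v) = ρ (hE p t) (ρ ((uE p) ^ ((↑t⁻¹ : ZMod p) * ↑t⁻¹).val) v - v) := by
  rw [aOp_apply, ← app_mul, uE_mul_hE, app_mul, map_sub]

/-- The projection to the weight `k`. -/
noncomputable def proj (ρ : SL(2, ZMod p) →* Module.End K V) (k : ℤ) : Module.End K V :=
  -∑ t : (ZMod p)ˣ, ((chi p K t ^ (-k) : Kˣ) : K) • ρ (hE p t)

theorem proj_apply (k : ℤ) (v : V) :
    proj ρ k v = -∑ t : (ZMod p)ˣ, ((chi p K t ^ (-k) : Kˣ) : K) • ρ (hE p t) v := by
  simp [proj, LinearMap.sum_apply]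

theorem isWt_proj (k : ℤ) (v : V) : IsWt ρ (proj ρ k v) k := by
  intro s
  rw [proj_apply, map_neg, map_sum, smul_neg, Finset.smul_sum]
  congr 1
  refine Fintype.sum_equiv (Equiv.mulLeft s) _ _ fun t => ?_
  rw [map_smul, ← app_mul, ← hE_mul, Equiv.coe_mulLeft, smul_smul, ← Units.val_mul, map_mul, mul_zpow,
    ← mul_assoc, ← _root_.zpow_add, add_neg_cancel, zpow_zero, one_mul]

theorem sum_proj (v : V) : ∑ k ∈ Finset.range (p - 1), proj ρ (k : ℤ) v = v := by
  classical
  simp only [proj_apply]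
  rw [Finset.sum_neg_distrib, Finset.sum_comm]
  simp only [← Finset.sum_smul]
  rw [Finset.sum_eq_single (1 : (ZMod p)ˣ)]
  · simp only [map_one, _root_.one_zpow, Units.val_one, Finset.sum_const, Finset.card_range, nsmul_eq_mul,
      mul_one, hE_one, Module.End.one_apply]
    rw [Nat.cast_sub (Fact.out : p.Prime).one_le, CharP.cast_eq_zero, Nat.cast_one, zero_sub, neg_one_smul,
      neg_neg]
  · intro t _ ht
    have hne : ((chi p K t⁻¹ : Kˣ) : K) ≠ 1 := fun h => ht (by
      have h2 : chi p K t⁻¹ = chi p K 1 := by rw [map_one]; exact Units.ext h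
      exact inv_eq_one.1 (Units.map_injective (ci (p := p) K).injective h2))
    have h0 : ∑ k ∈ Finset.range (p - 1), ((chi p K t ^ (-(k : ℤ)) : Kˣ) : K) = 0 := by
      simp only [_root_.zpow_neg, zpow_natCast, ← inv_pow, ← map_inv, Units.val_pow_eq_pow_val]
      rw [geom_sum_eq hne, ← Units.val_pow_eq_pow_val, chi_pow_card, Units.val_one, sub_self, zero_div]
    rw [h0, zero_smul]
  · intro h; exact absurd (Finset.mem_univ _) h

theorem proj_mem {S : Submodule K V} (hS : IsInv ρ S) {v : V} (hv : v ∈ S) (k : ℤ) : proj ρ k v ∈ S := by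
  rw [proj_apply]
  exact neg_mem (Submodule.sum_mem _ fun t _ => Submodule.smul_mem _ _ (hS _ _ hv))

theorem aOp_proj_mem {S : Submodule K V} (hS : IsInv ρ S) {v : V} (hv : aOp ρ v ∈ S) (k : ℤ) :
    aOp ρ (proj ρ k v) ∈ S := by
  rw [proj_apply, map_neg, map_sum]
  refine neg_mem (Submodule.sum_mem _ fun t _ => ?_)
  rw [map_smul, aOp_hE]
  exact Submodule.smul_mem _ _ (hS _ _ (pow_uE_sub hS hv _).1)

theorem aOp_proj_eq_zero {v : V} (hv : aOp ρ v = 0) (k : ℤ) : aOp ρ (proj ρ k v) = 0 :=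
  (Submodule.mem_bot K).1 (aOp_proj_mem (S := ⊥) (fun g u hu => by
    rw [(Submodule.mem_bot K).1 hu, map_zero]; exact zero_mem _) (by rw [hv]; exact zero_mem _) k)

variable [FiniteDimensional K V]

/-- A chain of length `n` needs a dimension `n + 1`. -/
theorem low_finrank (n : ℕ) : ∀ {S : Submodule K V}, IsInv ρ S ∨ S.map (aOp ρ) ≤ S → ∀ {ℓ : V}, ℓ ∈ S →
    (aOp ρ ^ n) ℓ ≠ 0 → n + 1 ≤ finrank K S := by
  induction n with
  | zero =>
    intro S _ ℓ hℓ hne
    exact Submodule.one_le_finrank_iff.2 fun h => hne (by rw [h, Submodule.mem_bot] at hℓ; simp [hℓ])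
  | succ n ih =>
    intro S hS ℓ hℓ hne
    have hle : S.map (aOp ρ) ≤ S := hS.elim IsInv.map_le id
    have h1 := ih (S := S.map (aOp ρ)) (Or.inr (Submodule.map_mono hle)) (Submodule.mem_map_of_mem hℓ)
      (by rw [← Module.End.mul_apply, ← pow_succ]; exact hne)
    have hlt : S.map (aOp ρ) < S := lt_of_le_of_ne hle fun he => by
      have hpow : ∀ j, S.map (aOp ρ ^ j) = S := by
        intro j
        induction j with
        | zero => rw [pow_zero]; exact Submodule.map_id S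
        | succ j ihj => rw [pow_succ', Module.End.mul_eq_comp, Submodule.map_comp, ihj, he]
      have := hpow p
      rw [aOp_pow_prime, Submodule.map_zero] at this
      rw [← this, Submodule.mem_bot] at hℓ
      exact hne (by rw [hℓ, map_zero])
    have := Submodule.finrank_lt_finrank_of_lt hlt
    omega

/-- An invariant subspace filled by one chain starting at a vector of weight `r`. -/
structure IsBlock (ρ : SL(2, ZMod p) →* Module.End K V) (S : Submodule K V) (ℓ : V) (r : ℤ) (n : ℕ) :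
    Prop where
  inv : IsInv ρ S
  mem : ℓ ∈ S
  wt : IsWt ρ ℓ r
  dim : finrank K S = n + 1
  top : (aOp ρ ^ n) ℓ ≠ 0

namespace IsBlock

variable {S : Submodule K V} {ℓ : V} {r : ℤ} {n : ℕ} (hB : IsBlock ρ S ℓ r n)
include hB

theorem pow_eq_zero {σ : V} (hσ : σ ∈ S) : (aOp ρ ^ (n + 1)) σ = 0 := by
  by_contra h
  have := low_finrank (n + 1) (Or.inl hB.inv) hσ h
  rw [hB.dim] at this
  omega

theorem not_mem_map : ℓ ∉ S.map (aOp ρ) := by
  rintro ⟨y, hy, e⟩
  refine hB.top ?_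
  rw [← e, ← Module.End.mul_apply, ← pow_succ]
  exact hB.pow_eq_zero hy

theorem decomp {x : V} (hx : x ∈ S) : ∃ (c : K), ∃ σ ∈ S, x = c • ℓ + aOp ρ σ := by
  have hle : Submodule.span K {ℓ} ⊔ S.map (aOp ρ) ≤ S :=
    sup_le ((Submodule.span_singleton_le_iff_mem _ _).2 hB.mem) hB.inv.map_le
  have hn : n ≤ finrank K (S.map (aOp ρ)) := by
    rcases Nat.eq_zero_or_pos n with h | h
    · omega
    · have := low_finrank (n - 1) (S := S.map (aOp ρ)) (Or.inr (Submodule.map_mono hB.inv.map_le))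
        (Submodule.mem_map_of_mem hB.mem)
        (by rw [← Module.End.mul_apply, ← pow_succ, Nat.sub_add_cancel h]; exact hB.top)
      omega
  have hlt : S.map (aOp ρ) < Submodule.span K {ℓ} ⊔ S.map (aOp ρ) := lt_of_le_of_ne le_sup_right fun he =>
    hB.not_mem_map (by rw [he]; exact Submodule.mem_sup_left (Submodule.mem_span_singleton_self ℓ))
  have h1 := Submodule.finrank_lt_finrank_of_lt hlt
  have heq := Submodule.eq_of_le_of_finrank_le hle (by rw [hB.dim]; omega)
  rw [← heq] at hx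
  obtain ⟨_, ha, _, ⟨σ, hσ, rfl⟩, rfl⟩ := Submodule.mem_sup.1 hx
  obtain ⟨c, rfl⟩ := Submodule.mem_span_singleton.1 ha
  exact ⟨c, σ, hσ, rfl⟩

theorem fix_pos : 0 < finrank K ↥(fixSub (ρ (uE p)) ⊓ S) := by
  refine Submodule.one_le_finrank_iff.2 fun h => hB.top ((Submodule.mem_bot K).1 ?_)
  rw [← h]
  refine ⟨?_, ?_⟩
  · rw [SetLike.mem_coe, mem_fixSub, ← sub_eq_zero, ← aOp_apply, ← Module.End.mul_apply, ← pow_succ']
    exact hB.pow_eq_zero hB.mem
  · have : ∀ j, (aOp ρ ^ j) ℓ ∈ S := by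
      intro j
      induction j with
      | zero => exact hB.mem
      | succ j ih => rw [pow_succ', Module.End.mul_apply]; exact hB.inv.aOp_mem ih
    exact this n

theorem obstruction {v : V} {k : ℤ} (hv : IsWt ρ v k) (hav : aOp ρ v ∈ S)
    (hbad : ∀ σ ∈ S, aOp ρ (v + σ) ≠ 0) :
    ((p - 1 : ℕ) : ℤ) ∣ k + 2 - r ∧ (aOp ρ ^ (n + 1)) v ≠ 0 := by
  obtain ⟨c, σ, hσ, e⟩ := hB.decomp hav
  have hc : c ≠ 0 := fun hc => hbad (-σ) (neg_mem hσ) (by
    rw [map_add, map_neg, e, hc, zero_smul, zero_add, add_neg_cancel])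
  refine ⟨dvd_of_chi_zpow_eq (K := K) fun t => ?_, ?_⟩
  · set s := ((t : ZMod p) * t).val
    have hsK : (s : K) = ((chi p K t ^ (2 : ℤ) : Kˣ) : K) := by
      rw [zpow_two, Units.val_mul, chi_val, ← map_mul, ← ZMod.natCast_zmod_val ((t : ZMod p) * (t : ZMod p)),
        map_natCast]
    have hmove : ∀ y : V, ρ (hE p t) (aOp ρ y) = ρ ((uE p) ^ s) (ρ (hE p t) y) - ρ (hE p t) y := fun y => by
      rw [aOp_apply, map_sub, ← app_mul, ← app_mul, hE_mul_uE]
    have h1 := (pow_uE_sub hB.inv hav s).2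
    have hht := (pow_uE_sub hB.inv (hB.inv.aOp_mem (hB.inv (hE p t) σ hσ)) s)
    have hz : ρ ((uE p) ^ s) (ρ (hE p t) σ) - ρ (hE p t) σ ∈ S.map (aOp ρ) := by
      have := add_mem hht.2 (Submodule.smul_mem _ (s : K) (Submodule.mem_map_of_mem (f := aOp ρ)
        (hB.inv (hE p t) σ hσ)))
      rwa [sub_add_cancel] at this
    have hlhs : ρ (hE p t) (aOp ρ v) = (c * ((chi p K t ^ r : Kˣ) : K)) • ℓ +
        (ρ ((uE p) ^ s) (ρ (hE p t) σ) - ρ (hE p t) σ) := by
      rw [e, map_add, map_smul, hB.wt t, smul_smul, hmove]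
    have hrhs : ρ (hE p t) (aOp ρ v) = ((chi p K t ^ k : Kˣ) : K) • (ρ ((uE p) ^ s) v - v) := by
      rw [hmove, hv t, map_smul, ← smul_sub]
    have hkey : (c * (((chi p K t ^ r : Kˣ) : K) - ((chi p K t ^ (k + 2) : Kˣ) : K))) • ℓ ∈ S.map (aOp ρ) := by
      have h2 : ((chi p K t ^ k : Kˣ) : K) • ((ρ ((uE p) ^ s) v - v - (s : K) • aOp ρ v)
          + (s : K) • aOp ρ σ) - (ρ ((uE p) ^ s) (ρ (hE p t) σ) - ρ (hE p t) σ) ∈ S.map (aOp ρ) :=
        sub_mem (Submodule.smul_mem _ _ (add_mem h1 (Submodule.smul_mem _ _ (Submodule.mem_map_of_mem hσ)))) hz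
      convert h2 using 1
      rw [_root_.zpow_add, Units.val_mul, ← hsK]
      have h3 := hlhs.symm.trans hrhs
      rw [e, smul_add (s : K), smul_smul (s : K)]
      linear_combination (norm := module) h3
    by_contra hne
    refine hB.not_mem_map ((Submodule.smul_mem_iff _ (mul_ne_zero hc ?_)).1 hkey)
    exact sub_ne_zero.2 fun h => hne (Units.ext h).symm
  · rw [pow_succ, Module.End.mul_apply, e, map_add, map_smul, ← Module.End.mul_apply, ← pow_succ,
      hB.pow_eq_zero hσ, add_zero]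
    exact smul_ne_zero hc hB.top

end IsBlock

end Cfsg.Agent.FixSixth
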